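import Groth.Agent.ExtPow7.Cocycle

/-!
# Uniqueness of exterior powers and the exterior powers of degrees 0 and 1
-/

set_option autoImplicit false
set_option linter.style.haveILetI false
set_option linter.unusedSectionVars false
set_option backward.isDefEq.respectTransparency false
set_option backward.isDefEq.respectTransparency.types false

universe u

open CategoryTheory CategoryTheory.Limits AlgebraicGeometry TopologicalSpace Opposite

noncomputable section

namespace Groth.Agent.ExtPow7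

open Groth.Agent Groth.Agent.AModX

variable {X : Scheme.{u}} {E : X.Modules}

theorem exists_affine_frames (hE : FlatMod.IsFinLocFree E) :
    ∃ (n : X → ℕ) (U : X → X.Opens) (s : ∀ x, Fin (n x) → Γ(E, U x)),
      (∀ x, x ∈ U x) ∧ (∀ x, IsAffineOpen (U x)) ∧ ∀ x, H23.Frame.IsFrame E (s x) := by
  choose U n hU e using hE
  choose s hs using fun x => H23.Frame.exists_frame (e x).some
  choose Q hQ hxQ hle using fun x : X => X.isBasis_affineOpens.exists_subset_of_mem_open (hU x) (U x).2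
  choose W hW hWQ using hQ
  have h : ∀ x, W x ≤ U x := fun x z hz => hle x (hWQ x ▸ hz)
  exact ⟨n, W, fun x k => res E (h x) (s x k), fun x => by have := hxQ x; rwa [← hWQ x] at this, hW,
    fun x => (hs x).res (h x)⟩

theorem nonempty_iso_isExtPow (hE : FlatMod.IsFinLocFree E) {p : ℕ} {L L' : X.Modules}
    (hL : ExtPow.IsExtPow p E L) (hL' : ExtPow.IsExtPow p E L') : Nonempty (L ≅ L') := by
  obtain ⟨n, U, s, hU, hUa, hs⟩ := exists_affine_frames hE
  obtain ⟨a⟩ := nonempty_iso_mat U s hs hUa hU L hL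
  obtain ⟨b⟩ := nonempty_iso_mat U s hs hUa hU L' hL'
  exact ⟨a.symm ≪≫ b⟩

theorem isFinLocFree_of_isExtPow (hE : FlatMod.IsFinLocFree E) {p : ℕ} {L : X.Modules}
    (hL : ExtPow.IsExtPow p E L) : FlatMod.IsFinLocFree L := by
  obtain ⟨n, U, s, hU, hUa, hs⟩ := exists_affine_frames hE
  obtain ⟨a⟩ := nonempty_iso_mat U s hs hUa hU L hL
  intro x
  obtain ⟨V, m, hxV, ⟨f⟩⟩ := Glue.isFinLocFree (mat p U s hs) hU x
  exact ⟨V, m, hxV, ⟨(Scheme.Modules.restrictFunctor V.ι).mapIso a.symm ≪≫ f⟩⟩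

theorem isExtPow_zero (E : X.Modules) : ExtPow.IsExtPow 0 E (Coh.structureModule X) := by
  refine ⟨fun V => (exteriorPower.zeroEquiv Γ(X, V.1) (E.val.obj (op V.1))).symm, fun V W h e => ?_⟩
  have h1 : exteriorPower.zeroEquiv Γ(X, V.1) (E.val.obj (op V.1)) (exteriorPower.ιMulti Γ(X, V.1) 0 e) =
      (1 : Γ(X, V.1)) := exteriorPower.zeroEquiv_ιMulti _
  have h2 : ∀ f : Fin 0 → E.val.obj (op W.1),
      exteriorPower.zeroEquiv Γ(X, W.1) (E.val.obj (op W.1)) (exteriorPower.ιMulti Γ(X, W.1) 0 f) =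
      (1 : Γ(X, W.1)) := fun f => exteriorPower.zeroEquiv_ιMulti _
  refine (congrArg ((Coh.structureModule X).val.map (homOfLE h).op) h1).trans (Eq.trans ?_ (h2 _).symm)
  exact map_one (X.presheaf.map (homOfLE h).op).hom

theorem isExtPow_one (E : X.Modules) : ExtPow.IsExtPow 1 E E := by
  refine ⟨fun V => (exteriorPower.oneEquiv Γ(X, V.1) (E.val.obj (op V.1))).symm, fun V W h e => ?_⟩
  have h1 : exteriorPower.oneEquiv Γ(X, V.1) (E.val.obj (op V.1)) (exteriorPower.ιMulti Γ(X, V.1) 1 e) = e 0 :=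
    exteriorPower.oneEquiv_ιMulti _
  have h2 : ∀ f : Fin 1 → E.val.obj (op W.1),
      exteriorPower.oneEquiv Γ(X, W.1) (E.val.obj (op W.1)) (exteriorPower.ιMulti Γ(X, W.1) 1 f) = f 0 :=
    fun f => exteriorPower.oneEquiv_ιMulti _
  exact (congrArg (E.val.map (homOfLE h).op) h1).trans (h2 (fun j => E.val.map (homOfLE h).op (e j))).symm

theorem isZero_of_isExtPow_lt {n p : ℕ} (hE : FlatMod.IsFinLocFreeOfRank n E) (h : n < p) {L : X.Modules}
    (hL : ExtPow.IsExtPow p E L) : IsZero L := by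
  choose U₀ hx e using hE
  choose s hs using fun x => H23.Frame.exists_frame (e x).some
  choose Q hQ hxQ hle using fun x : X => X.isBasis_affineOpens.exists_subset_of_mem_open (hx x) (U₀ x).2
  choose W hW hWQ using hQ
  have hW' : ∀ x, W x ≤ U₀ x := fun x z hz => hle x (hWQ x ▸ hz)
  let t : ∀ x : X, Fin n → Γ(E, W x) := fun x k => res E (hW' x) (s x k)
  have ht : ∀ x, H23.Frame.IsFrame E (t x) := fun x => (hs x).res (hW' x)
  have hxW : ∀ x, x ∈ W x := fun x => by have := hxQ x; rwa [← hWQ x] at this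
  obtain ⟨a⟩ := nonempty_iso_mat (n := fun _ => n) W t ht hW hxW L hL
  refine IsZero.of_iso (RelTildeX.isZero_of_locally _ fun x => ⟨W x, hxW x, fun V hV => ?_⟩) a.symm
  haveI : IsEmpty (I p (fun _ : X => n) x) := ⟨fun A => by
    have h1 := A.2
    rw [Set.powersetCard.mem_iff] at h1
    have := Finset.card_le_univ A.1
    rw [Fintype.card_fin] at this
    change A.1.card ≤ n at this
    omega⟩
  exact (Glue.co_injective (mat p W t ht) x hV).subsingleton

end Groth.Agent.ExtPow7
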