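import Groth.Agent.ExtPow7.Adapted
import Groth.Agent.ExtPow7.Basics
import Groth.Agent.Lib.CurveTensor
import Groth.Agent.H23.PicMul
import Groth.Agent.KFlatLib.Scheme.TensorStalk

/-!
# The pre-λ-ring of bundles
-/

set_option autoImplicit false
set_option linter.style.haveILetI false
set_option linter.unusedSectionVars false
set_option backward.isDefEq.respectTransparency false

universe u

open CategoryTheory CategoryTheory.Limits AlgebraicGeometry
attribute [local instance] HasDerivedCategory.standard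

noncomputable section

namespace Groth.Agent.ExtPow7.Lam

open Groth.Agent
open scoped Groth.Agent.H23.PicMul

variable {X : Scheme.{u}}

/-- The class of a module. -/
abbrev c (M : X.Modules) : SGA6.Kvb X := KZero.clSub (fun N : X.Modules => FlatMod.IsFinLocFree N) M

theorem c_iso {A B : X.Modules} (e : A ≅ B) (hA : FlatMod.IsFinLocFree A) : c A = c B := by
  have hB : FlatMod.IsFinLocFree B := fun x => by
    obtain ⟨V, m, hxV, ⟨f⟩⟩ := hA x
    exact ⟨V, m, hxV, ⟨(Scheme.Modules.restrictFunctor V.ι).mapIso e.symm ≪≫ f⟩⟩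
  exact KZ.clSub_iso _ e hA hB (isZero_zero _) (KFlatLib.isFinLocFree_of_isZero (isZero_zero _))

theorem flf_tensor {E F : X.Modules} (hE : FlatMod.IsFinLocFree E) (hF : FlatMod.IsFinLocFree F) :
    FlatMod.IsFinLocFree (((DCoh.tensorBi (X := X)).obj E).obj F) :=
  KFlatLib.isFinLocFree_tensor hE hF

theorem cl_comm {E F : X.Modules} (hE : FlatMod.IsFinLocFree E) (hF : FlatMod.IsFinLocFree F) :
    c (((DCoh.tensorBi (X := X)).obj E).obj F) = c (((DCoh.tensorBi (X := X)).obj F).obj E) := by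
  obtain ⟨e⟩ := H23.PicMul.comm E F
  exact c_iso e (flf_tensor hE hF)

theorem tensor_add {E : X.Modules} (hE : FlatMod.IsFinLocFree E) {S : ShortComplex X.Modules} (hS : S.ShortExact)
    (h₁ : FlatMod.IsFinLocFree S.X₁) (h₂ : FlatMod.IsFinLocFree S.X₂) (h₃ : FlatMod.IsFinLocFree S.X₃) :
    c (((DCoh.tensorBi (X := X)).obj E).obj S.X₂) =
      c (((DCoh.tensorBi (X := X)).obj E).obj S.X₁) + c (((DCoh.tensorBi (X := X)).obj E).obj S.X₃) :=
  KZ.clSub_ses (fun N : X.Modules => FlatMod.IsFinLocFree N)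
    (CurveTensor.shortExact_tensor hE S.f S.g S.zero hS) (flf_tensor hE h₁) (flf_tensor hE h₂) (flf_tensor hE h₃)

theorem exists_mul : ∃ m : SGA6.Kvb X →+ SGA6.Kvb X →+ SGA6.Kvb X, ∀ E F : X.Modules,
    FlatMod.IsFinLocFree E → FlatMod.IsFinLocFree F → m (c E) (c F) = c (((DCoh.tensorBi (X := X)).obj E).obj F) := by
  have h1 : ∀ E : X.Modules, ∃ t : SGA6.Kvb X →+ SGA6.Kvb X, FlatMod.IsFinLocFree E →
      ∀ F, FlatMod.IsFinLocFree F → t (c F) = c (((DCoh.tensorBi (X := X)).obj E).obj F) := fun E => by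
    by_cases hE : FlatMod.IsFinLocFree E
    · obtain ⟨t, ht⟩ := KZ.exists_liftSub (fun N : X.Modules => FlatMod.IsFinLocFree N)
        (fun F => c (((DCoh.tensorBi (X := X)).obj E).obj F)) fun S hS h₁ h₂ h₃ => tensor_add hE hS h₁ h₂ h₃
      exact ⟨t, fun _ F hF => ht F hF⟩
    · exact ⟨0, fun h => absurd h hE⟩
  choose t ht using h1
  obtain ⟨m, hm⟩ := KZ.exists_liftSub (fun N : X.Modules => FlatMod.IsFinLocFree N) t fun S hS h₁ h₂ h₃ =>
    KZ.K0sub_hom_ext _ fun F hF => by
      show t S.X₂ (c F) = t S.X₁ (c F) + t S.X₃ (c F)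
      rw [ht _ h₂ _ hF, ht _ h₁ _ hF, ht _ h₃ _ hF, cl_comm h₂ hF, cl_comm h₁ hF, cl_comm h₃ hF]
      exact tensor_add hF hS h₁ h₂ h₃
  exact ⟨m, fun E F hE hF => by rw [show m (c E) = t E from hm E hE]; exact ht E hE F hF⟩

/-- The product. -/
def mulHom (X : Scheme.{u}) : SGA6.Kvb X →+ SGA6.Kvb X →+ SGA6.Kvb X := (exists_mul (X := X)).choose

theorem mulHom_c {E F : X.Modules} (hE : FlatMod.IsFinLocFree E) (hF : FlatMod.IsFinLocFree F) :
    mulHom X (c E) (c F) = c (((DCoh.tensorBi (X := X)).obj E).obj F) :=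
  (exists_mul (X := X)).choose_spec E F hE hF

theorem isInvertible_O : PicF.IsInvertible (Coh.structureModule X) := InvX.isInvertible_structureModule

theorem flf_O : FlatMod.IsFinLocFree (Coh.structureModule X) :=
  H23.PullPush.isFinLocFree_of_isInvertible isInvertible_O

theorem mul_comm' (x y : SGA6.Kvb X) : mulHom X x y = mulHom X y x := by
  refine DFunLike.congr_fun (DFunLike.congr_fun (KZ.K0sub_hom_ext _ (f := mulHom X) (g := (mulHom X).flip) fun E hE =>
    KZ.K0sub_hom_ext _ fun F hF => ?_) x) y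
  show mulHom X (c E) (c F) = mulHom X (c F) (c E)
  rw [mulHom_c hE hF, mulHom_c hF hE, cl_comm hE hF]

theorem one_mul' (x : SGA6.Kvb X) : mulHom X (c (Coh.structureModule X)) x = x := by
  refine DFunLike.congr_fun (KZ.K0sub_hom_ext _ (g := AddMonoidHom.id _) fun E hE => ?_) x
  show mulHom X (c (Coh.structureModule X)) (c E) = c E
  rw [mul_comm', mulHom_c hE flf_O]
  exact c_iso (H23.PicMul.unit E).some (flf_tensor hE flf_O)

theorem mul_assoc' (x y z : SGA6.Kvb X) : mulHom X (mulHom X x y) z = mulHom X x (mulHom X y z) := by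
  let m := mulHom X
  let a : SGA6.Kvb X →+ SGA6.Kvb X →+ SGA6.Kvb X →+ SGA6.Kvb X :=
    AddMonoidHom.mk' (fun x => m.comp (m x)) fun x x' => by ext; simp
  let b : SGA6.Kvb X →+ SGA6.Kvb X →+ SGA6.Kvb X →+ SGA6.Kvb X :=
    AddMonoidHom.mk' (fun x => AddMonoidHom.mk' (fun y => (m x).comp (m y)) fun y y' => by ext; simp)
      fun x x' => by ext; simp
  refine DFunLike.congr_fun (DFunLike.congr_fun (DFunLike.congr_fun
    (KZ.K0sub_hom_ext _ (f := a) (g := b) fun E hE => KZ.K0sub_hom_ext _ fun F hF =>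
      KZ.K0sub_hom_ext _ fun G hG => ?_) x) y) z
  show m (m (c E) (c F)) (c G) = m (c E) (m (c F) (c G))
  rw [mulHom_c hE hF, mulHom_c (flf_tensor hE hF) hG, mulHom_c hF hG, mulHom_c hE (flf_tensor hF hG)]
  exact c_iso (H23.PicMul.assoc E F G).some (flf_tensor (flf_tensor hE hF) hG)

/-- The ring structure on `K₀` of bundles. -/
@[reducible] def commRing (X : Scheme.{u}) : CommRing (SGA6.Kvb X) :=
  { (inferInstance : AddCommGroup (SGA6.Kvb X)) with
    mul := fun x y => mulHom X x y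
    one := c (Coh.structureModule X)
    mul_assoc := mul_assoc'
    one_mul := one_mul'
    mul_one := fun x => (mul_comm' x _).trans (one_mul' x)
    left_distrib := fun x y z => map_add (mulHom X x) y z
    right_distrib := fun x y z => DFunLike.congr_fun (map_add (mulHom X) x y) z
    zero_mul := fun x => DFunLike.congr_fun (map_zero (mulHom X)) x
    mul_zero := fun x => map_zero (mulHom X x)
    mul_comm := mul_comm' }

attribute [local instance] commRing

theorem one_eq : (1 : SGA6.Kvb X) = c (Coh.structureModule X) := rfl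

theorem mul_eq {E F : X.Modules} (hE : FlatMod.IsFinLocFree E) (hF : FlatMod.IsFinLocFree F) :
    c E * c F = c (((DCoh.tensorBi (X := X)).obj E).obj F) :=
  mulHom_c hE hF

theorem exists_lamHom : ∃ Λ : SGA6.Kvb X →+ Additive (PowerSeries (SGA6.Kvb X))ˣ,
    ∀ (i : ℕ) (E L : X.Modules), FlatMod.IsFinLocFree E → ExtPow.IsExtPow i E L →
      PowerSeries.coeff i ((Λ (c E)).toMul : PowerSeries (SGA6.Kvb X)) = c L := by
  have hex : ∀ (E : X.Modules) (i : ℕ), ∃ L : X.Modules, FlatMod.IsFinLocFree E →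
      ExtPow.IsExtPow i E L ∧ FlatMod.IsFinLocFree L := fun E i => by
    by_cases hE : FlatMod.IsFinLocFree E
    · obtain ⟨L, hL⟩ := exists_isExtPow hE i
      exact ⟨L, fun _ => hL⟩
    · exact ⟨E, fun h => absurd h hE⟩
  choose L hL using hex
  have huniq : ∀ {i : ℕ} {E M : X.Modules}, FlatMod.IsFinLocFree E → ExtPow.IsExtPow i E M → c (L E i) = c M :=
    fun {i E M} hE hM => c_iso (nonempty_iso_isExtPow hE (hL E i hE).1 hM).some (hL E i hE).2
  let s : X.Modules → PowerSeries (SGA6.Kvb X) := fun E => PowerSeries.mk fun i => c (L E i)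
  have hc : ∀ E, FlatMod.IsFinLocFree E → IsUnit (s E) := fun E hE => by
    rw [PowerSeries.isUnit_iff_constantCoeff, ← PowerSeries.coeff_zero_eq_constantCoeff_apply]
    simp only [s, PowerSeries.coeff_mk]
    rw [huniq hE (isExtPow_zero E), ← one_eq]
    exact isUnit_one
  classical
  let φ : X.Modules → Additive (PowerSeries (SGA6.Kvb X))ˣ := fun E =>
    Additive.ofMul (if h : IsUnit (s E) then h.unit else 1)
  obtain ⟨Λ, hΛ⟩ := KZ.exists_liftSub (fun N : X.Modules => FlatMod.IsFinLocFree N) φ fun S hS h₁ h₂ h₃ => by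
    refine Additive.toMul.injective (Units.ext ?_)
    show ((φ S.X₂).toMul : PowerSeries (SGA6.Kvb X)) =
      ((φ S.X₁).toMul : PowerSeries (SGA6.Kvb X)) * ((φ S.X₃).toMul : PowerSeries (SGA6.Kvb X))
    simp only [φ, toMul_ofMul, dif_pos (hc _ h₁), dif_pos (hc _ h₂), dif_pos (hc _ h₃), IsUnit.unit_spec]
    ext k
    rw [PowerSeries.coeff_mul, Finset.Nat.sum_antidiagonal_eq_sum_range_succ
      (fun i j => PowerSeries.coeff i (s S.X₁) * PowerSeries.coeff j (s S.X₃))]
    simp only [s, PowerSeries.coeff_mk]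
    refine (cl_extPow_ses hS h₁ h₃ (fun i => L S.X₁ i) (fun i => L S.X₃ i) (L S.X₂ k)
      (fun i => ⟨(hL _ i h₁).2, (hL _ i h₁).1⟩) ⟨(hL _ k h₂).2, (hL _ k h₂).1⟩
      (fun i => ⟨(hL _ i h₃).2, (hL _ i h₃).1⟩)).trans (Finset.sum_congr rfl fun i _ => ?_)
    exact (mul_eq (hL _ i h₁).2 (hL _ (k - i) h₃).2).symm
  refine ⟨Λ, fun i E M hE hM => ?_⟩
  rw [hΛ E hE]
  simp only [φ, toMul_ofMul, dif_pos (hc _ hE), IsUnit.unit_spec, s, PowerSeries.coeff_mk]
  exact huniq hE hM

/-- The series of exterior powers. -/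
def lamHom (X : Scheme.{u}) : SGA6.Kvb X →+ Additive (PowerSeries (SGA6.Kvb X))ˣ :=
  (exists_lamHom (X := X)).choose

/-- `λ^i`. -/
def lam (i : ℕ) (x : SGA6.Kvb X) : SGA6.Kvb X :=
  PowerSeries.coeff i ((lamHom X x).toMul : PowerSeries (SGA6.Kvb X))

theorem lam_c {i : ℕ} {E L : X.Modules} (hE : FlatMod.IsFinLocFree E) (hL : ExtPow.IsExtPow i E L) :
    lam i (c E) = c L :=
  (exists_lamHom (X := X)).choose_spec i E L hE hL

theorem lam_add (k : ℕ) (x y : SGA6.Kvb X) :
    lam k (x + y) = ∑ i ∈ Finset.range (k + 1), lam i x * lam (k - i) y := by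
  rw [lam, map_add, toMul_add, Units.val_mul, PowerSeries.coeff_mul]
  exact Finset.Nat.sum_antidiagonal_eq_sum_range_succ (fun i j => lam i x * lam j y) k

theorem lam_zero (x : SGA6.Kvb X) : lam 0 x = 1 := by
  let z : SGA6.Kvb X →+ Additive (SGA6.Kvb X)ˣ :=
    (MonoidHom.toAdditive (Units.map (PowerSeries.constantCoeff (R := SGA6.Kvb X)).toMonoidHom)).comp (lamHom X)
  have hz : z = 0 := KZ.K0sub_hom_ext _ fun E hE => by
    refine Additive.toMul.injective (Units.ext ?_)
    show PowerSeries.constantCoeff ((lamHom X (c E)).toMul : PowerSeries _) = (1 : SGA6.Kvb X)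
    rw [← PowerSeries.coeff_zero_eq_constantCoeff_apply, one_eq]
    exact lam_c hE (isExtPow_zero E)
  have h := congrArg (fun g : SGA6.Kvb X →+ Additive (SGA6.Kvb X)ˣ => ((g x).toMul : SGA6.Kvb X)) hz
  rw [lam, PowerSeries.coeff_zero_eq_constantCoeff_apply]
  exact h

theorem lam_one (x : SGA6.Kvb X) : lam 1 x = x := by
  refine DFunLike.congr_fun (KZ.K0sub_hom_ext _
    (f := AddMonoidHom.mk' (lam (X := X) 1) fun a b => by
      rw [lam_add, Finset.sum_range_succ, Finset.sum_range_one, lam_zero, lam_zero]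
      simp only [Nat.sub_zero, one_mul, Nat.sub_self, lam_zero, mul_one]
      exact add_comm _ _)
    (g := AddMonoidHom.id _) fun E hE => lam_c hE (isExtPow_one E)) x

theorem isLambdaStructureVb :
    SGA6.IsLambdaStructureVb X (AddMonoidHom.mul (R := SGA6.Kvb X)) lam :=
  ⟨fun x y => mul_comm x y, fun x y z => mul_assoc x y z, fun x => by
      show c (Coh.structureModule X) * x = x
      rw [← one_eq, one_mul],
    fun E F hE hF => mul_eq hE hF, fun i E L hE hL => lam_c hE hL,
    fun x => (lam_zero x).trans one_eq, lam_one, lam_add⟩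

end Groth.Agent.ExtPow7.Lam
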