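import Groth.Agent.H23.Frame
import Groth.Agent.InvX.Tensor
import Groth.Agent.ExtShX.FundCon

/-!
# Tensor products of frames
-/

set_option autoImplicit false
set_option linter.style.haveILetI false
set_option linter.unusedSectionVars false
set_option backward.isDefEq.respectTransparency false
set_option backward.isDefEq.respectTransparency.types false

universe u

open CategoryTheory CategoryTheory.Limits AlgebraicGeometry TopologicalSpace Opposite MonoidalCategory
open scoped TensorProduct

noncomputable section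

namespace Groth.Agent.ExtPow7

open Groth.Agent Groth.Agent.AModX

variable {X : Scheme.{u}} {M N : X.Modules} {U : X.Opens}

theorem germ_bijective_of_frame {n : ℕ} {s : Fin n → Γ(M, U)} (hs : H23.Frame.IsFrame M s) (x : X) (hx : x ∈ U) :
    Function.Bijective fun c : Fin n → X.presheaf.stalk x => ∑ i, c i • M.presheaf.germ U x hx (s i) := by
  have hgerm : ∀ (V : X.Opens) (hV : V ≤ U) (hxV : x ∈ V) (a : Fin n → Γ(X, V)),
      M.presheaf.germ V x hxV (H23.Frame.comb M s V hV a) =
        ∑ i, X.presheaf.germ V x hxV (a i) • M.presheaf.germ U x hx (s i) := fun V hV hxV a => by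
    rw [H23.Frame.comb, map_sum]
    refine Finset.sum_congr rfl fun i _ => ?_
    rw [QCoh.germ_smul', TopCat.Presheaf.germ_res_apply]
  refine ⟨fun c c' he => ?_, fun z => ?_⟩
  · choose V₁ hV₁ a ha using fun i => X.presheaf.exists_germ_eq (x := x) (c i)
    choose V₂ hV₂ a' ha' using fun i => X.presheaf.exists_germ_eq (x := x) (c' i)
    let V : X.Opens := U ⊓ Finset.univ.inf (fun i => V₁ i ⊓ V₂ i)
    have hxV : x ∈ V := ⟨hx, by
      show x ∈ ((Finset.univ.inf fun i => V₁ i ⊓ V₂ i : X.Opens) : Set X)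
      simp [TopologicalSpace.Opens.coe_finset_inf, hV₁, hV₂]⟩
    have h1 : ∀ i, V ≤ V₁ i := fun i => inf_le_right.trans ((Finset.inf_le (Finset.mem_univ i)).trans inf_le_left)
    have h2 : ∀ i, V ≤ V₂ i := fun i => inf_le_right.trans ((Finset.inf_le (Finset.mem_univ i)).trans inf_le_right)
    have he' : M.presheaf.germ V x hxV (H23.Frame.comb M s V inf_le_left fun i => resR (h1 i) (a i)) =
        M.presheaf.germ V x hxV (H23.Frame.comb M s V inf_le_left fun i => resR (h2 i) (a' i)) := by
      simp only [hgerm, RefX.germ_resR, ha, ha']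
      exact he
    obtain ⟨V', hxV', i₁, i₂, hij⟩ :=
      TopCat.Presheaf.germ_eq (C := AddCommGrpCat.{u}) M.presheaf x hxV hxV _ _ he'
    change res M i₁.le _ = res M i₂.le _ at hij
    have hV' : V' ≤ U := i₁.le.trans inf_le_left
    have e : ∀ (b : Fin n → Γ(X, V)) (h : V' ≤ V), res M h (H23.Frame.comb M s V inf_le_left b) =
        H23.Frame.comb M s V' hV' (fun i => resR h (b i)) := fun b h => by
      show res M h (∑ i, b i • res M (inf_le_left : V ≤ U) (s i)) = ∑ i, _ • res M hV' (s i)
      simp only [map_sum, res_smul]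
      exact Finset.sum_congr rfl fun i _ => congrArg _ (res_res _ _ _)
    rw [e _ i₁.le, e _ i₂.le] at hij
    funext i
    have h3 := congrArg (X.presheaf.germ V' x hxV') (congrFun ((hs V' hV').1 hij) i)
    simp only [resR_resR, RefX.germ_resR, ha, ha'] at h3
    exact h3
  · obtain ⟨W, hW, m, rfl⟩ := TopCat.Presheaf.exists_germ_eq M.presheaf z
    obtain ⟨a, ha⟩ := (hs (W ⊓ U) inf_le_right).2 (res M inf_le_left m)
    refine ⟨fun i => X.presheaf.germ (W ⊓ U) x ⟨hW, hx⟩ (a i), ?_⟩
    show ∑ i, X.presheaf.germ (W ⊓ U) x ⟨hW, hx⟩ (a i) • M.presheaf.germ U x hx (s i) = _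
    rw [← hgerm _ inf_le_right ⟨hW, hx⟩ a, ha]
    exact RefX.germ_res M inf_le_left ⟨hW, hx⟩ m

theorem tmul_add_right (a : Γ(M, U)) (b b' : Γ(N, U)) : InvX.tmul a (b + b') = InvX.tmul a b + InvX.tmul a b' :=
  (congrArg _ (KFlatLib.tm_add_right a b b')).trans (map_add _ _ _)

theorem tmul_add_left (a a' : Γ(M, U)) (b : Γ(N, U)) : InvX.tmul (a + a') b = InvX.tmul a b + InvX.tmul a' b :=
  (congrArg _ (KFlatLib.tm_add_left a a' b)).trans (map_add _ _ _)

/-- `tmul` in the first variable. -/
def tmulL (b : Γ(N, U)) : Γ(M, U) →+ Γ(CohB1.tensorMod M N, U) :=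
  AddMonoidHom.mk' (fun z => InvX.tmul z b) fun z z' => tmul_add_left z z' b

/-- `tmul` in the second variable. -/
def tmulR (a : Γ(M, U)) : Γ(N, U) →+ Γ(CohB1.tensorMod M N, U) :=
  AddMonoidHom.mk' (fun y => InvX.tmul a y) fun y y' => tmul_add_right a y y'

theorem tmul_sum_smul {α β : Type} [Fintype α] [Fintype β] (c : α → Γ(X, U)) (a : α → Γ(M, U))
    (d : β → Γ(X, U)) (b : β → Γ(N, U)) :
    InvX.tmul (∑ i, c i • a i) (∑ j, d j • b j) = ∑ q : α × β, (c q.1 * d q.2) • InvX.tmul (a q.1) (b q.2) := by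
  rw [Fintype.sum_prod_type]
  refine (map_sum (tmulL (∑ j, d j • b j)) (fun i => c i • a i) Finset.univ).trans (Finset.sum_congr rfl fun i _ => ?_)
  refine (map_sum (tmulR (c i • a i)) (fun j => d j • b j) Finset.univ).trans (Finset.sum_congr rfl fun j _ => ?_)
  show InvX.tmul (c i • a i) (d j • b j) = _
  rw [InvX.tmul_smul_left, InvX.tmul_smul_right, smul_smul]

theorem isFrame_tmul {m n : ℕ} {a : Fin m → Γ(M, U)} {b : Fin n → Γ(N, U)} (ha : H23.Frame.IsFrame M a)
    (hb : H23.Frame.IsFrame N b) (σ : Fin (m * n) ≃ Fin m × Fin n) :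
    H23.Frame.IsFrame (CohB1.tensorMod M N) fun q => InvX.tmul (a (σ q).1) (b (σ q).2) := by
  refine ExtShX.Fund.isFrame_of_germs _ fun x hx => ?_
  let P := CohB1.toPMod M
  let Q := CohB1.toPMod N
  let R := X.presheaf.stalk x
  let ga : Fin m → KFlatLib.stalkMod x P := fun i => KFlatLib.germP P U hx (a i)
  let gb : Fin n → KFlatLib.stalkMod x Q := fun i => KFlatLib.germP Q U hx (b i)
  have bij : ∀ {k : ℕ} {G : X.Modules} (s : Fin k → Γ(G, U)), H23.Frame.IsFrame G s →
      Function.Bijective (Fintype.linearCombination R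
        fun i => (KFlatLib.germP (CohB1.toPMod G) U hx (s i) : KFlatLib.stalkMod x (CohB1.toPMod G))) :=
    fun {k G} s hs => by
      have h := germ_bijective_of_frame hs x hx
      exact (congrArg Function.Bijective (funext fun c => (Fintype.linearCombination_apply R _ c).trans rfl)).mpr h
  let Ba := Module.Basis.ofEquivFun (LinearEquiv.ofBijective _ (bij a ha)).symm
  let Bb := Module.Basis.ofEquivFun (LinearEquiv.ofBijective _ (bij b hb)).symm
  have hBa : ∀ i, Ba i = ga i := fun i => by
    simp [Ba, ga, R, Fintype.linearCombination_apply, Pi.single_apply]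
    rfl
  have hBb : ∀ i, Bb i = gb i := fun i => by
    simp [Bb, gb, R, Fintype.linearCombination_apply, Pi.single_apply]
    rfl
  haveI hi := KFlatLib.isIso_stalk_unitShP (x := x) (P ⊗ Q)
  let u := ((KFlatLib.stalkP x).map (KFlatLib.unitShP (P ⊗ Q)))
  have hu : Function.Bijective u.hom := ConcreteCategory.bijective_of_isIso u
  let T := ((Ba.tensorProduct Bb).reindex σ.symm).equivFun.symm.trans (KFlatLib.tensorStalkEquiv P Q)
  have key : ∀ c : Fin (m * n) → R, u.hom (T c) =
      ∑ q, c q • (show KFlatLib.stalkMod x (DCoh.toP.obj (DCoh.shP.obj (P ⊗ Q))) from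
        KFlatLib.germP _ U hx (InvX.tmul (a (σ q).1) (b (σ q).2))) := fun c => by
    show u.hom (KFlatLib.tensorStalkEquiv P Q (((Ba.tensorProduct Bb).reindex σ.symm).equivFun.symm c)) = _
    rw [Module.Basis.equivFun_symm_apply, map_sum, map_sum]
    refine Finset.sum_congr rfl fun q _ => ?_
    rw [map_smul, map_smul, Module.Basis.reindex_apply, Equiv.symm_symm, Module.Basis.tensorProduct_apply', hBa, hBb]
    refine congrArg (c q • ·) ?_
    exact (congrArg u.hom (KFlatLib.ofTensor_germ U hx (a (σ q).1) (b (σ q).2))).trans (KFlatLib.stalkModMap_germ _ U hx _)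
  exact (funext key) ▸ hu.comp T.bijective

end Groth.Agent.ExtPow7
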