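import Groth.Agent.ExtPow7.Lambda
import Groth.Agent.CanonTriv.TopPow
import Groth.Agent.H23.PicInv
import Groth.Agent.Lib.InvEnd
import Groth.Agent.KRR7.Ample
import Groth.Agent.KRR7.GP

/-!
# The positive structure on the pre-λ-ring of bundles of a connected scheme
-/

set_option autoImplicit false
set_option linter.style.haveILetI false
set_option linter.unusedSectionVars false
set_option backward.isDefEq.respectTransparency false

universe u

open CategoryTheory CategoryTheory.Limits AlgebraicGeometry TopologicalSpace Opposite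
attribute [local instance] HasDerivedCategory.standard

noncomputable section

namespace Groth.Agent.ExtPow7.Lam

open Groth.Agent Groth.Agent.AModX
open scoped Groth.Agent.H23.PicMul

attribute [local instance] commRing

variable {X : Scheme.{u}}

/-- The rank at a point. -/
def rk (M : X.Modules) (x : X) : ℕ := Module.finrank (X.presheaf.stalk x) (M.presheaf.stalk x)

theorem rk_of_frame {M : X.Modules} {U : X.Opens} {n : ℕ} {s : Fin n → Γ(M, U)} (hs : H23.Frame.IsFrame M s)
    {x : X} (hx : x ∈ U) : rk M x = n := by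
  let R := X.presheaf.stalk x
  have hb : Function.Bijective (Fintype.linearCombination R fun i => M.presheaf.germ U x hx (s i)) :=
    (congrArg Function.Bijective (funext fun c => (Fintype.linearCombination_apply R _ c).trans rfl)).mpr
      (germ_bijective_of_frame hs x hx)
  haveI : Nontrivial R := inferInstance
  exact (LinearEquiv.ofBijective _ hb).finrank_eq.symm.trans (Module.finrank_fin_fun R)

theorem rk_of_rank {M : X.Modules} {n : ℕ} (hM : FlatMod.IsFinLocFreeOfRank n M) (x : X) : rk M x = n := by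
  obtain ⟨U, hxU, ⟨e⟩⟩ := hM x
  obtain ⟨s, hs⟩ := H23.Frame.exists_frame e
  exact rk_of_frame hs hxU

theorem rk_ses {S : ShortComplex X.Modules} (hS : S.ShortExact) (h₁ : FlatMod.IsFinLocFree S.X₁)
    (h₃ : FlatMod.IsFinLocFree S.X₃) (x : X) : rk S.X₂ x = rk S.X₁ x + rk S.X₃ x := by
  obtain ⟨n', n'', U, s', t, hU, -, hs', hs''⟩ := exists_adapted hS h₁ h₃
  rw [rk_of_frame (hs' x) (hU x), rk_of_frame (hs'' x) (hU x),
    rk_of_frame (isFrame_app2 hS s' t hs' hs'' x) (hU x)]

theorem rk_tensor {E F : X.Modules} (hE : FlatMod.IsFinLocFree E) (hF : FlatMod.IsFinLocFree F) (x : X) :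
    rk (((DCoh.tensorBi (X := X)).obj E).obj F) x = rk E x * rk F x := by
  obtain ⟨n, U, a, hU, -, ha⟩ := exists_affine_frames hE
  obtain ⟨m, V, b, hV, -, hb⟩ := exists_affine_frames hF
  have ha' := (ha x).res (inf_le_left : U x ⊓ V x ≤ U x)
  have hb' := (hb x).res (inf_le_right : U x ⊓ V x ≤ V x)
  have hx : x ∈ U x ⊓ V x := ⟨hU x, hV x⟩
  rw [rk_of_frame (ha x) (hU x), rk_of_frame (hb x) (hV x)]
  exact rk_of_frame (isFrame_tmul ha' hb' finProdFinEquiv.symm) hx

variable [ConnectedSpace ↥X]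

theorem exists_augHom : ∃ ε : SGA6.Kvb X →+* ℤ, ∀ (n : ℕ) (E : X.Modules), FlatMod.IsFinLocFreeOfRank n E →
    ε (c E) = n := by
  obtain ⟨x⟩ := (inferInstance : Nonempty ↥X)
  obtain ⟨f, hf⟩ := KZ.exists_liftSub (fun N : X.Modules => FlatMod.IsFinLocFree N) (fun M => (rk M x : ℤ))
    fun S hS h₁ _ h₃ => by rw [rk_ses hS h₁ h₃, Nat.cast_add]
  have hone : f 1 = 1 := by
    rw [one_eq]
    exact (hf _ flf_O).trans (by rw [rk_of_rank (InvEnd.isFinLocFreeOfRank_one isInvertible_O) x]; rfl)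
  have hmul : ∀ a b, f (a * b) = f a * f b := fun a b => by
    let l : SGA6.Kvb X →+ SGA6.Kvb X →+ ℤ := (AddMonoidHom.compHom f).comp AddMonoidHom.mul
    let r : SGA6.Kvb X →+ SGA6.Kvb X →+ ℤ := ((AddMonoidHom.compHom.flip f).comp ((AddMonoidHom.mul (R := ℤ)).comp f))
    refine DFunLike.congr_fun (DFunLike.congr_fun (KZ.K0sub_hom_ext _ (f := l) (g := r) fun E hE =>
      KZ.K0sub_hom_ext _ fun F hF => ?_) a) b
    show f (c E * c F) = f (c E) * f (c F)
    rw [mul_eq hE hF, show f (c E) = _ from hf E hE, show f (c F) = _ from hf F hF,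
      show f (c _) = _ from hf _ (flf_tensor hE hF), rk_tensor hE hF, Nat.cast_mul]
  refine ⟨{ f with map_one' := hone, map_mul' := hmul }, fun n E hE => ?_⟩
  exact (hf E fun x => let ⟨U, hx, he⟩ := hE x; ⟨U, n, hx, he⟩).trans (by rw [rk_of_rank hE])

/-- The classes of bundles of positive rank. -/
def posSet (X : Scheme.{u}) : Set (SGA6.Kvb X) :=
  {x | ∃ (n : ℕ) (E : X.Modules), 1 ≤ n ∧ FlatMod.IsFinLocFreeOfRank n E ∧ c E = x}

theorem rank_of_rk {E : X.Modules} (hE : FlatMod.IsFinLocFree E) (x : X) : FlatMod.IsFinLocFreeOfRank (rk E x) E := by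
  obtain ⟨r, hr⟩ := KRR7.exists_rank hE
  rwa [rk_of_rank hr x]

theorem flf_of_rank {n : ℕ} {E : X.Modules} (hE : FlatMod.IsFinLocFreeOfRank n E) : FlatMod.IsFinLocFree E :=
  fun x => let ⟨U, hx, he⟩ := hE x; ⟨U, n, hx, he⟩

theorem add_mem_pos {a b : SGA6.Kvb X} (ha : a ∈ posSet X) (hb : b ∈ posSet X) : a + b ∈ posSet X := by
  obtain ⟨n, E, hn, hE, rfl⟩ := ha
  obtain ⟨m, F, hm, hF, rfl⟩ := hb
  obtain ⟨x⟩ := (inferInstance : Nonempty ↥X)
  let S := ShortComplex.mk (biprod.inl : E ⟶ E ⊞ F) biprod.snd biprod.inl_snd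
  have hS : S.ShortExact := (ShortComplex.Splitting.ofHasBinaryBiproduct E F).shortExact
  have hEF : FlatMod.IsFinLocFree (E ⊞ F) := KFlatLib.isFinLocFree_biprod (flf_of_rank hE) (flf_of_rank hF)
  refine ⟨rk (E ⊞ F) x, E ⊞ F, ?_, rank_of_rk hEF x, KZ.clSub_ses _ hS (flf_of_rank hE) hEF (flf_of_rank hF)⟩
  rw [show rk (E ⊞ F) x = rk E x + rk F x from rk_ses hS (flf_of_rank hE) (flf_of_rank hF) x, rk_of_rank hE, rk_of_rank hF]
  omega

theorem one_mem_pos : (1 : SGA6.Kvb X) ∈ posSet X :=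
  ⟨1, _, le_rfl, InvEnd.isFinLocFreeOfRank_one isInvertible_O, rfl⟩

/-- `K₀` of bundles as a λ-ring. -/
@[reducible] def lambdaOps (X : Scheme.{u}) : LambdaRing.LambdaOps (SGA6.Kvb X) where
  lam := lam
  lam_zero := lam_zero
  lam_one := lam_one
  lam_add := lam_add

attribute [local instance] lambdaOps

variable (X) in
theorem exists_posStructure : ∃ P : LambdaRing.PosStructure (SGA6.Kvb X),
    KRR.IsModel X (SGA6.Kvb X) P (AddMonoidHom.id _) := by
  obtain ⟨ε, hε⟩ := exists_augHom (X := X)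
  obtain ⟨x₀⟩ := (inferInstance : Nonempty ↥X)
  have hnat : ∀ n : ℕ, 0 < n → (n : SGA6.Kvb X) ∈ posSet X := fun n hn => by
    induction n, hn using Nat.le_induction with
    | base => simpa using one_mem_pos (X := X)
    | succ n _ ih => rw [Nat.cast_succ]; exact add_mem_pos ih one_mem_pos
  let H : AddSubgroup (SGA6.Kvb X) :=
    { carrier := {z | ∃ e f, e ∈ posSet X ∧ f ∈ posSet X ∧ z = e - f}
      zero_mem' := ⟨1, 1, one_mem_pos, one_mem_pos, (sub_self _).symm⟩
      add_mem' := by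
        rintro _ _ ⟨e, f, he, hf, rfl⟩ ⟨e', f', he', hf', rfl⟩
        exact ⟨e + e', f + f', add_mem_pos he he', add_mem_pos hf hf', by abel⟩
      neg_mem' := by
        rintro _ ⟨e, f, he, hf, rfl⟩
        exact ⟨f, e, hf, he, by abel⟩ }
  have hsub : ∀ z, ∃ e f, e ∈ posSet X ∧ f ∈ posSet X ∧ z = e - f := fun z => by
    have h := DFunLike.congr_fun (KZ.K0sub_hom_ext _ (f := QuotientAddGroup.mk' H) (g := 0) fun E hE => ?_) z
    · exact (QuotientAddGroup.eq_zero_iff z).1 h
    refine (QuotientAddGroup.eq_zero_iff _).2 ?_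
    by_cases h0 : rk E x₀ = 0
    · refine ⟨c E + 1 + 1, 1 + 1, ?_, add_mem_pos one_mem_pos one_mem_pos, by abel⟩
      obtain ⟨x⟩ := (inferInstance : Nonempty ↥X)
      let S := ShortComplex.mk (biprod.inl : E ⟶ E ⊞ Coh.structureModule X) biprod.snd biprod.inl_snd
      have hS : S.ShortExact := (ShortComplex.Splitting.ofHasBinaryBiproduct _ _).shortExact
      have hEO := KFlatLib.isFinLocFree_biprod hE (flf_O (X := X))
      refine add_mem_pos ⟨rk (E ⊞ Coh.structureModule X) x₀, _, ?_, rank_of_rk hEO x₀,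
        KZ.clSub_ses _ hS hE hEO flf_O⟩ one_mem_pos
      rw [show rk (E ⊞ _) x₀ = rk E x₀ + rk (Coh.structureModule X) x₀ from rk_ses hS hE flf_O x₀,
        rk_of_rank (InvEnd.isFinLocFreeOfRank_one isInvertible_O) x₀]
      omega
    · exact ⟨c E + 1, 1, add_mem_pos ⟨_, E, Nat.one_le_iff_ne_zero.2 h0, rank_of_rk hE x₀, rfl⟩ one_mem_pos,
        one_mem_pos, by abel⟩
  refine ⟨
    { aug := ε
      aug_surjective := fun z => ⟨z, map_intCast ε z⟩
      pos := posSet X
      add_mem := fun _ _ => add_mem_pos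
      mul_mem := ?_
      natCast_mem := hnat
      exists_sub := hsub
      aug_pos := ?_
      lam_eq_zero := ?_
      isUnit_lam := ?_ },
    { bijective := Function.bijective_id
      map_one := one_eq.symm
      map_mul := fun E F hE hF => mul_eq hE hF
      map_lam := fun i E L hE _ hL => lam_c hE hL
      aug_cl := hε
      mem_pos_iff := fun _ => Iff.rfl }⟩
  · rintro _ _ ⟨n, E, hn, hE, rfl⟩ ⟨m, F, hm, hF, rfl⟩
    have h := flf_tensor (flf_of_rank hE) (flf_of_rank hF)
    refine ⟨rk (((DCoh.tensorBi (X := X)).obj E).obj F) x₀, _, ?_, rank_of_rk h x₀,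
      (mul_eq (flf_of_rank hE) (flf_of_rank hF)).symm⟩
    rw [rk_tensor (flf_of_rank hE) (flf_of_rank hF), rk_of_rank hE, rk_of_rank hF]
    exact Nat.one_le_iff_ne_zero.2 (Nat.mul_ne_zero (by omega) (by omega))
  · rintro _ ⟨n, E, hn, hE, rfl⟩
    rw [hε n E hE]
    omega
  · rintro _ ⟨n, E, hn, hE, rfl⟩ i hi
    rw [hε n E hE] at hi
    obtain ⟨L, hL, -⟩ := exists_isExtPow (flf_of_rank hE) i
    exact (lam_c (flf_of_rank hE) hL).trans (KZ.clSub_isZero _ (isZero_of_isExtPow_lt hE (by omega) hL))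
  · rintro _ ⟨n, E, hn, hE, rfl⟩
    rw [hε n E hE, Int.toNat_natCast]
    obtain ⟨L, hL, hLf⟩ := exists_isExtPow (flf_of_rank hE) n
    rw [show LambdaRing.LambdaOps.lam n (c E) = c L from lam_c (flf_of_rank hE) hL]
    obtain ⟨D, hD, ⟨e⟩⟩ := H23.PicInv.exists_inverse (CanonTriv.isInvertible_of_isExtPow_top hE hL)
    have hDf := H23.PullPush.isFinLocFree_of_isInvertible hD
    exact IsUnit.of_mul_eq_one (c D) ((mul_eq hLf hDf).trans ((c_iso e (flf_tensor hLf hDf)).trans one_eq.symm))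

end Groth.Agent.ExtPow7.Lam
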