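import Groth.Agent.ExtPow7.TopSes
import Groth.Agent.ExtPow7.Lambda
import Groth.Agent.ExtPow7.Rank
import Groth.Agent.H23.PicMul
import Groth.Agent.Lib.CurveDualPrep
import Groth.Agent.InvX.GenEpi

/-!
# The determinant homomorphism on the Grothendieck group of bundles
-/

set_option autoImplicit false
set_option linter.style.haveILetI false
set_option linter.unusedSectionVars false
set_option backward.isDefEq.respectTransparency false
set_option backward.isDefEq.respectTransparency.types false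

universe u

open CategoryTheory CategoryTheory.Limits AlgebraicGeometry TopologicalSpace Opposite

noncomputable section

namespace Groth.Agent.ExtPow7

open Groth.Agent Groth.Agent.AModX Lam
open scoped Groth.Agent.H23.PicMul

variable {X : Scheme.{u}}

theorem flf {n : ℕ} {E : X.Modules} (hE : FlatMod.IsFinLocFreeOfRank n E) : FlatMod.IsFinLocFree E :=
  fun x => let ⟨U, hx, he⟩ := hE x; ⟨U, n, hx, he⟩

theorem exists_adapted_rank {S : ShortComplex X.Modules} (hS : S.ShortExact) {a b : ℕ}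
    (h₁ : FlatMod.IsFinLocFreeOfRank a S.X₁) (h₃ : FlatMod.IsFinLocFreeOfRank b S.X₃) :
    ∃ (n' n'' : X → ℕ) (U : X → X.Opens) (s' : ∀ x, Fin (n' x) → Γ(S.X₁, U x))
      (t : ∀ x, Fin (n'' x) → Γ(S.X₂, U x)), (∀ x, n' x = a) ∧ (∀ x, n'' x = b) ∧ (∀ x, x ∈ U x) ∧
      (∀ x, IsAffineOpen (U x)) ∧
      (∀ x, H23.Frame.IsFrame S.X₁ (s' x)) ∧
      ∀ x, H23.Frame.IsFrame S.X₃ (fun k => S.g.app (U x) (t x k)) := by
  obtain ⟨n', n'', U, s', t, hU, hUa, hs', hs''⟩ := exists_adapted hS (flf h₁) (flf h₃)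
  refine ⟨n', n'', U, s', t, fun x => ?_, fun x => ?_, hU, hUa, hs', hs''⟩
  · rw [← rk_of_frame (hs' x) (hU x), rk_of_rank h₁ x]
  · rw [← rk_of_frame (hs'' x) (hU x), rk_of_rank h₃ x]

theorem nonempty_iso_top_of_ses {S : ShortComplex X.Modules} (hS : S.ShortExact) {a b : ℕ}
    (h₁ : FlatMod.IsFinLocFreeOfRank a S.X₁) (h₃ : FlatMod.IsFinLocFreeOfRank b S.X₃)
    (L₁ L₂ L₃ : X.Modules) (hL₁ : ExtPow.IsExtPow a S.X₁ L₁) (hL₂ : ExtPow.IsExtPow (a + b) S.X₂ L₂)
    (hL₃ : ExtPow.IsExtPow b S.X₃ L₃) : Nonempty (L₂ ≅ CohB1.tensorMod L₁ L₃) := by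
  obtain ⟨n', n'', U, s', t, hn', hn'', hU, hUa, hs', hs''⟩ := exists_adapted_rank hS h₁ h₃
  exact nonempty_iso_top_ses hS hn' hn'' hU hUa s' t hs' hs'' L₁ L₂ L₃ hL₁ hL₂ hL₃

/-- The top exterior power is invertible. -/
theorem isInvertible_topExtPow {n : ℕ} {E L : X.Modules} (hE : FlatMod.IsFinLocFreeOfRank n E)
    (hL : ExtPow.IsExtPow n E L) : PicF.IsInvertible L := by
  refine CurveDuality.isInvertible_of_rank_one fun x => ?_
  obtain ⟨m, U, s, hU, hUa, hs⟩ := exists_affine_frames (flf hE)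
  obtain ⟨e⟩ := nonempty_iso_mat U s hs hUa hU L hL
  have hm : m x = n := by rw [← rk_of_frame (hs x) (hU x), rk_of_rank hE x]
  have hc : Fintype.card (I n m x) = 1 := by
    rw [← Nat.card_eq_fintype_card, Set.powersetCard.card, Nat.card_fin, hm, Nat.choose_self]
  let σ : Fin 1 ≃ I n m x := (finCongr hc.symm).trans (Fintype.equivFin (I n m x)).symm
  obtain ⟨g⟩ := H23.Frame.exists_iso_of_frame (fun j => Glue.sec (mat n U s hs) x (σ j)) fun W hW =>
    Glue.frame_sec (mat n U s hs) x σ W hW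
  exact ⟨U x, hU x, ⟨(Scheme.Modules.restrictFunctor (U x).ι).mapIso e.symm ≪≫ g⟩⟩

/-- The class of the top exterior power as a unit. -/
noncomputable def detUnit (M : X.Modules) : (PicF.Cl X)ˣ :=
  open Classical in
  if h : ∃ (n : ℕ) (L : X.Modules), FlatMod.IsFinLocFreeOfRank n M ∧ ExtPow.IsExtPow n M L then
    (H23.PicMul.isUnit_cl (isInvertible_topExtPow h.choose_spec.choose_spec.1 h.choose_spec.choose_spec.2)).unit
  else 1

variable [ConnectedSpace ↥X]

theorem detUnit_eq {n : ℕ} {E L : X.Modules} (hE : FlatMod.IsFinLocFreeOfRank n E) (hL : ExtPow.IsExtPow n E L) :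
    (detUnit E : PicF.Cl X) = PicF.cl L := by
  have h : ∃ (n : ℕ) (L : X.Modules), FlatMod.IsFinLocFreeOfRank n E ∧ ExtPow.IsExtPow n E L := ⟨n, L, hE, hL⟩
  rw [detUnit, dif_pos h, IsUnit.unit_spec]
  obtain ⟨x⟩ := (inferInstance : Nonempty ↥X)
  have hn : h.choose = n := by
    rw [← rk_of_rank h.choose_spec.choose_spec.1 x, rk_of_rank hE x]
  refine H23.PicMul.cl_eq_iff.2 (nonempty_iso_isExtPow (flf hE) h.choose_spec.choose_spec.2 ?_)
  rw [hn]
  exact hL

/-- On a connected scheme a bundle has constant rank. -/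
theorem exists_rank {E : X.Modules} (hE : FlatMod.IsFinLocFree E) : ∃ n, FlatMod.IsFinLocFreeOfRank n E := by
  obtain ⟨x⟩ := (inferInstance : Nonempty ↥X)
  exact ⟨rk E x, rank_of_rk hE x⟩

/-- The determinant homomorphism. -/
theorem exists_detHom : ∃ d : SGA6.Kvb X →+ Additive (PicF.Cl X)ˣ,
    ∀ (n : ℕ) (E L : X.Modules), FlatMod.IsFinLocFreeOfRank n E → ExtPow.IsExtPow n E L →
      ((d (c E)).toMul : PicF.Cl X) = PicF.cl L := by
  obtain ⟨d, hd⟩ := KZ.exists_liftSub (fun N : X.Modules => FlatMod.IsFinLocFree N)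
    (fun M => Additive.ofMul (detUnit M)) fun S hS h₁ h₂ h₃ => by
      obtain ⟨a, ha⟩ := exists_rank h₁
      obtain ⟨b, hb⟩ := exists_rank h₃
      obtain ⟨x⟩ := (inferInstance : Nonempty ↥X)
      have hab : FlatMod.IsFinLocFreeOfRank (a + b) S.X₂ := by
        have h := rank_of_rk h₂ x
        rwa [rk_ses hS h₁ h₃, rk_of_rank ha x, rk_of_rank hb x] at h
      obtain ⟨L₁, hL₁, -⟩ := exists_isExtPow h₁ a
      obtain ⟨L₂, hL₂, -⟩ := exists_isExtPow h₂ (a + b)
      obtain ⟨L₃, hL₃, -⟩ := exists_isExtPow h₃ b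
      refine congrArg Additive.ofMul (Units.ext ?_)
      simp only [toMul_ofMul]
      rw [Units.val_mul, detUnit_eq ha hL₁, detUnit_eq hb hL₃, detUnit_eq hab hL₂, ← H23.PicMul.cl_tensor]
      exact H23.PicMul.cl_eq_iff.2 (nonempty_iso_top_of_ses hS ha hb L₁ L₂ L₃ hL₁ hL₂ hL₃)
  refine ⟨d, fun n E L hE hL => ?_⟩
  rw [show d (c E) = _ from hd E (flf hE)]
  exact detUnit_eq hE hL

end Groth.Agent.ExtPow7
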