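import Groth.Agent.ExtShX.ExtPowTop
import Mathlib

/-!
# Exterior powers of finite locally free modules exist
-/

set_option autoImplicit false
set_option linter.style.haveILetI false
set_option linter.unusedSectionVars false
set_option backward.isDefEq.respectTransparency false
set_option backward.isDefEq.respectTransparency.types false

universe u

open CategoryTheory CategoryTheory.Limits AlgebraicGeometry TopologicalSpace Opposite Set.powersetCard
open scoped TensorProduct

noncomputable section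

namespace Groth.Agent.ExtPow7

open Groth.Agent Groth.Agent.AModX Groth.Agent.InvX

variable {X : Scheme.{u}} {E : X.Modules} {p : ℕ} {n : X → ℕ} (U : X → X.Opens)
  (s : ∀ x, Fin (n x) → Γ(E, U x)) (hs : ∀ x, H23.Frame.IsFrame E (s x))

variable (n p) in
/-- The index set of the coordinates at `x`. -/
abbrev I (x : X) : Type := Set.powersetCard (Fin (n x)) p

/-- The basis of the exterior power of sections inside a frame. -/
def B (x : X) (W : X.Opens) (hW : W ≤ U x) :
    Module.Basis (I p n x) Γ(X, W) ↥(⋀[Γ(X, W)]^p Γ(E, W)) :=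
  (ExtShX.TopExt.bas (hs x) W hW).exteriorPower p

/-- The coordinates of a wedge in the frame at `x`. -/
def cw (x : X) (W : X.Opens) (hW : W ≤ U x) (v : Fin p → Γ(E, W)) (S : I p n x) : Γ(X, W) :=
  (B U s hs x W hW).repr (exteriorPower.ιMulti Γ(X, W) p v) S

theorem cw_eq_det (x : X) (W : X.Opens) (hW : W ≤ U x) (v : Fin p → Γ(E, W)) (S : I p n x) :
    cw U s hs x W hW v S =
      (Matrix.of fun i j => (ExtShX.TopExt.bas (hs x) W hW).repr (v i) (ofFinEmbEquiv.symm S j)).det := by
  rw [cw, B, exteriorPower.basis_repr_apply, exteriorPower.ιMultiDual_apply_ιMulti]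
  rfl

theorem cw_res (x : X) {W W' : X.Opens} (hW : W ≤ U x) (h : W' ≤ W) (v : Fin p → Γ(E, W)) (S : I p n x) :
    cw U s hs x W' (h.trans hW) (fun i => res E h (v i)) S = resR h (cw U s hs x W hW v S) := by
  rw [cw_eq_det, cw_eq_det, RingHom.map_det]
  congr 1
  ext i j
  simp [ExtShX.TopExt.repr_res (hs x) hW h]

/-- The wedge of the frame indexed by `A`. -/
def bv (x : X) (W : X.Opens) (hW : W ≤ U x) (A : I p n x) : Fin p → Γ(E, W) :=
  fun i => ExtShX.TopExt.bas (hs x) W hW (ofFinEmbEquiv.symm A i)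

theorem ιMulti_bv (x : X) (W : X.Opens) (hW : W ≤ U x) (A : I p n x) :
    exteriorPower.ιMulti Γ(X, W) p (bv U s hs x W hW A) = B U s hs x W hW A := by
  rw [B, exteriorPower.basis_apply]
  rfl

theorem res_bv (x : X) {W W' : X.Opens} (hW : W ≤ U x) (h : W' ≤ W) (A : I p n x) (i : Fin p) :
    res E h (bv U s hs x W hW A i) = bv U s hs x W' (h.trans hW) A i := by
  rw [bv, bv, ExtShX.TopExt.bas_apply, ExtShX.TopExt.bas_apply, res_res]

/-- The transition matrix. -/
def T (x y : X) (W : X.Opens) (hx : W ≤ U x) (hy : W ≤ U y) (A : I p n x) (S : I p n y) : Γ(X, W) :=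
  cw U s hs y W hy (bv U s hs x W hx A) S

theorem T_res (x y : X) {W W' : X.Opens} (h : W' ≤ W) (hx : W ≤ U x) (hy : W ≤ U y) (A : I p n x) (S : I p n y) :
    resR h (T U s hs x y W hx hy A S) = T U s hs x y W' (h.trans hx) (h.trans hy) A S := by
  rw [T, ← cw_res U s hs y hy h, T]
  congr 1
  funext i
  exact res_bv U s hs x hx h A i

theorem repr_change (x y : X) (W : X.Opens) (hx : W ≤ U x) (hy : W ≤ U y)
    (w : ↥(⋀[Γ(X, W)]^p Γ(E, W))) (S : I p n y) :
    (B U s hs y W hy).repr w S = ∑ A, (B U s hs x W hx).repr w A * T U s hs x y W hx hy A S := by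
  conv_lhs => rw [← (B U s hs x W hx).sum_repr w]
  rw [map_sum, Finsupp.finsetSum_apply]
  refine Finset.sum_congr rfl fun A _ => ?_
  rw [map_smul, Finsupp.smul_apply, smul_eq_mul, T, cw, ιMulti_bv]

variable (p n) in
/-- Families of coordinates. -/
abbrev Fam (W : X.Opens) : Type u := ∀ x : X, I p n x → Γ(X, W ⊓ U x)

/-- Families transforming like coordinates. -/
def IsCo {W : X.Opens} (f : Fam p n U W) : Prop :=
  ∀ (x y : X) (V : X.Opens) (hV : V ≤ W) (hx : V ≤ U x) (hy : V ≤ U y) (S : I p n y),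
    resR (le_inf hV hy) (f y S) = ∑ A, resR (le_inf hV hx) (f x A) * T U s hs x y V hx hy A S

variable (p) in
/-- The sections. -/
def grp (W : X.Opens) : AddSubgroup (Fam p n U W) where
  carrier := {f | IsCo U s hs f}
  add_mem' := fun {a b} ha hb x y V hV hx hy S => by
    show resR _ (a y S + b y S) = ∑ A, resR _ (a x A + b x A) * _
    simp only [map_add, add_mul, Finset.sum_add_distrib, ← ha x y V hV hx hy S, ← hb x y V hV hx hy S]
  zero_mem' := fun x y V hV hx hy S => by
    show resR _ 0 = ∑ A, resR _ 0 * _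
    simp only [map_zero, zero_mul, Finset.sum_const_zero]
  neg_mem' := fun {a} ha x y V hV hx hy S => by
    show resR _ (-(a y S)) = ∑ A, resR _ (-(a x A)) * _
    simp only [map_neg, neg_mul, Finset.sum_neg_distrib, ← ha x y V hV hx hy S]

theorem grp_ext {W : X.Opens} {a b : grp p U s hs W} (h : ∀ x S, a.1 x S = b.1 x S) : a = b :=
  Subtype.ext (funext fun x => funext (h x))

instance instModule (W : X.Opens) : Module Γ(X, W) (grp p U s hs W) where
  smul r a := ⟨fun x S => resR inf_le_left r * a.1 x S, fun x y V hV hx hy S => by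
    rw [map_mul, a.2 x y V hV hx hy S, resR_resR, Finset.mul_sum]
    refine Finset.sum_congr rfl fun A _ => ?_
    rw [map_mul, resR_resR]
    exact (mul_assoc _ _ _).symm⟩
  one_smul a := grp_ext U s hs fun x S => by
    show resR _ 1 * _ = _
    rw [map_one, one_mul]
  mul_smul r t a := grp_ext U s hs fun x S => by
    show resR _ (r * t) * _ = resR _ r * (resR _ t * _)
    rw [map_mul, mul_assoc]
  smul_zero r := grp_ext U s hs fun x S => by
    show resR _ r * 0 = 0
    rw [mul_zero]
  smul_add r a b := grp_ext U s hs fun x S => by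
    show resR _ r * (a.1 x S + b.1 x S) = resR _ r * a.1 x S + resR _ r * b.1 x S
    rw [mul_add]
  add_smul r t a := grp_ext U s hs fun x S => by
    show resR _ (r + t) * _ = resR _ r * _ + resR _ t * _
    rw [map_add, add_mul]
  zero_smul a := grp_ext U s hs fun x S => by
    show resR _ 0 * _ = 0
    rw [map_zero, zero_mul]

theorem smul_val {W : X.Opens} (r : Γ(X, W)) (a : grp p U s hs W) (x : X) (S : I p n x) :
    (r • a).1 x S = resR inf_le_left r * a.1 x S := rfl

/-- Restriction. -/
def gres {W W' : X.Opens} (h : W' ≤ W) : grp p U s hs W →+ grp p U s hs W' where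
  toFun a := ⟨fun x S => resR (inf_le_inf_right _ h) (a.1 x S), fun x y V hV hx hy S => by
    simp only [resR_resR]
    exact a.2 x y V (hV.trans h) hx hy S⟩
  map_zero' := grp_ext U s hs fun _ _ => map_zero _
  map_add' _ _ := grp_ext U s hs fun _ _ => map_add _ _ _

variable (p) in
/-- The presheaf. -/
def psh : (X.Opens)ᵒᵖ ⥤ Ab.{u} where
  obj W := AddCommGrpCat.of (grp p U s hs W.unop)
  map {W W'} i := AddCommGrpCat.ofHom (gres U s hs i.unop.le)
  map_id W := by
    refine AddCommGrpCat.hom_ext (AddMonoidHom.ext fun a => grp_ext U s hs fun x S => ?_)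
    exact resR_self ((show grp p U s hs W.unop from a).1 x S)
  map_comp i j := by
    refine AddCommGrpCat.hom_ext (AddMonoidHom.ext fun a => grp_ext U s hs fun x S => ?_)
    exact (resR_resR _ _ ((show grp p U s hs _ from a).1 x S)).symm

instance (W : (X.Opens)ᵒᵖ) : Module (X.ringCatSheaf.obj.obj W) ((psh p U s hs).obj W) :=
  inferInstanceAs (Module Γ(X, W.unop) (grp p U s hs W.unop))

variable (p) in
/-- The presheaf of modules. -/
def pmod : X.PresheafOfModules :=
  PresheafOfModules.ofPresheaf (R := X.ringCatSheaf.obj) (psh p U s hs) fun W W' i r a =>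
    grp_ext U s hs fun x S => by
      show resR _ (resR _ (show Γ(X, W.unop) from r) * _) = resR _ (resR _ (show Γ(X, W.unop) from r)) * resR _ _
      rw [map_mul, resR_resR, resR_resR]

theorem isSheaf : Presheaf.IsSheaf (Opens.grothendieckTopology X) (pmod p U s hs).presheaf := by
  refine (TopCat.Presheaf.isSheaf_iff_isSheafUniqueGluing (X := X.toPresheafedSpace.carrier)
    (psh p U s hs)).2 fun J W sf hsf => ?_
  have hex : ∀ (x : X) (S : I p n x), ∃! g : Γ(X, iSup W ⊓ U x),
      ∀ j, resR (inf_le_inf_right _ (le_iSup W j)) g = (sf j).1 x S := fun x S => by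
    refine existsUnique_glue (M := Coh.structureModule X) (fun j => W j ⊓ U x)
      (fun j => inf_le_inf_right _ (le_iSup W j)) (fun q hq => ?_) (fun j => (sf j).1 x S) fun i j => ?_
    · obtain ⟨j, hj⟩ := Opens.mem_iSup.1 hq.1
      exact ⟨j, hj, hq.2⟩
    · have h := congrArg (fun a : grp p U s hs (W i ⊓ W j) => a.1 x S) (hsf i j)
      have h' := congrArg (resR (le_inf (le_inf (inf_le_left.trans inf_le_left) (inf_le_right.trans inf_le_left))
        (inf_le_left.trans inf_le_right) : (W i ⊓ U x) ⊓ (W j ⊓ U x) ≤ (W i ⊓ W j) ⊓ U x)) h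
      change resR _ (resR _ _) = resR _ (resR _ _) at h'
      rw [resR_resR, resR_resR] at h'
      exact h'
  choose g hg huniq using hex
  refine ⟨⟨g, fun x y V hV hx hy S => ?_⟩, fun j => grp_ext U s hs fun x S => hg x S j, fun t' ht =>
    grp_ext U s hs fun x S => huniq x S _ fun j => congrArg (fun a : grp p U s hs (W j) => a.1 x S) (ht j)⟩
  refine eq_of_locally (M := Coh.structureModule X) _ _ fun q hq => ?_
  obtain ⟨j, hj⟩ := Opens.mem_iSup.1 (hV hq)
  refine ⟨V ⊓ W j, inf_le_left, ⟨hq, hj⟩, ?_⟩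
  show resR inf_le_left (resR _ (g y S)) = resR inf_le_left (∑ A, resR _ (g x A) * _)
  simp only [map_sum, map_mul, resR_resR, T_res]
  have h := (sf j).2 x y (V ⊓ W j) inf_le_right (inf_le_left.trans hx) (inf_le_left.trans hy) S
  simp only [← hg, resR_resR] at h
  exact h

variable (p) in
/-- The exterior power. -/
def L : X.Modules := ⟨pmod p U s hs, isSheaf U s hs⟩

/-- A section as a family. -/
def fam {W : X.Opens} (f : Γ(L p U s hs, W)) : grp p U s hs W := f

theorem fam_inj {W : X.Opens} {f g : Γ(L p U s hs, W)}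
    (h : ∀ x S, (fam U s hs f).1 x S = (fam U s hs g).1 x S) : f = g :=
  (show Function.Injective (fam (p := p) U s hs (W := W)) from fun _ _ e => e) (grp_ext U s hs h)

theorem fam_res {W W' : X.Opens} (h : W' ≤ W) (f : Γ(L p U s hs, W)) (x : X) (S : I p n x) :
    (fam U s hs (res (L p U s hs) h f)).1 x S = resR (inf_le_inf_right _ h) ((fam U s hs f).1 x S) := rfl

theorem cw_cast (x : X) {W W' : X.Opens} (hW : W ≤ U x) (h : W' ≤ W) (h' : W' ≤ U x) (v : Fin p → Γ(E, W))
    (S : I p n x) : resR h (cw U s hs x W hW v S) = cw U s hs x W' h' (fun i => res E h (v i)) S :=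
  (cw_res U s hs x hW h v S).symm

variable (p) in
/-- The wedge of sections. -/
def alt (W : X.Opens) : Γ(E, W) [⋀^Fin p]→ₗ[Γ(X, W)] ↥(grp p U s hs W) where
  toFun v := ⟨fun x S => cw U s hs x (W ⊓ U x) inf_le_right (fun i => res E inf_le_left (v i)) S,
    fun x y V hV hx hy S => by
      simp only [cw_cast U s hs _ inf_le_right (le_inf hV hy) hy,
        cw_cast U s hs _ inf_le_right (le_inf hV hx) hx, res_res]
      exact repr_change U s hs x y V hx hy _ S⟩
  map_update_add' v i a b := grp_ext U s hs fun x S => by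
    have h : ∀ z, (fun k => res E (inf_le_left : W ⊓ U x ≤ W) (Function.update v i z k)) =
        Function.update (fun k => res E inf_le_left (v k)) i (res E inf_le_left z) := fun z =>
      funext fun k => Function.apply_update (fun _ a => res E inf_le_left a) v i z k
    show cw U s hs x _ _ _ S = cw U s hs x _ _ _ S + cw U s hs x _ _ _ S
    rw [h, h, h, map_add, cw, AlternatingMap.map_update_add, map_add, Finsupp.add_apply]
    rfl
  map_update_smul' v i c a := grp_ext U s hs fun x S => by
    have h : ∀ z, (fun k => res E (inf_le_left : W ⊓ U x ≤ W) (Function.update v i z k)) =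
        Function.update (fun k => res E inf_le_left (v k)) i (res E inf_le_left z) := fun z =>
      funext fun k => Function.apply_update (fun _ a => res E inf_le_left a) v i z k
    show cw U s hs x _ _ _ S = resR _ c * cw U s hs x _ _ _ S
    rw [h, h, res_smul, cw, AlternatingMap.map_update_smul, map_smul, Finsupp.smul_apply, smul_eq_mul]
    rfl
  map_eq_zero_of_eq' v i j hv hij := grp_ext U s hs fun x S => by
    show cw U s hs x _ _ _ S = 0
    rw [cw, AlternatingMap.map_eq_zero_of_eq _ _ (by rw [hv]) hij, map_zero]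
    rfl

variable (p) in
/-- The map from the exterior power of sections. -/
def Φ (W : X.Opens) : ↥(⋀[Γ(X, W)]^p Γ(E, W)) →ₗ[Γ(X, W)] Γ(L p U s hs, W) :=
  exteriorPower.alternatingMapLinearEquiv (alt p U s hs W)

theorem Φ_ιMulti (W : X.Opens) (v : Fin p → Γ(E, W)) :
    Φ p U s hs W (exteriorPower.ιMulti Γ(X, W) p v) = (show Γ(L p U s hs, W) from alt p U s hs W v) :=
  exteriorPower.alternatingMapLinearEquiv_apply_ιMulti _ v

theorem res_Φ {W W' : X.Opens} (h : W' ≤ W) (v : Fin p → Γ(E, W)) :
    res (L p U s hs) h (Φ p U s hs W (exteriorPower.ιMulti Γ(X, W) p v)) =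
      Φ p U s hs W' (exteriorPower.ιMulti Γ(X, W') p fun i => res E h (v i)) := by
  rw [Φ_ιMulti, Φ_ιMulti]
  refine fam_inj U s hs fun x S => (fam_res U s hs h _ x S).trans ?_
  show resR _ (cw U s hs x _ _ _ S) = cw U s hs x _ _ _ S
  rw [cw_cast U s hs _ inf_le_right _ inf_le_right]
  simp only [res_res]

/-- The coordinates at `x` of a section inside the frame. -/
def co (x : X) {W : X.Opens} (hW : W ≤ U x) : Γ(L p U s hs, W) →ₗ[Γ(X, W)] (I p n x → Γ(X, W)) where
  toFun f A := resR (le_inf le_rfl hW) ((fam U s hs f).1 x A)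
  map_add' f g := funext fun A => map_add _ _ _
  map_smul' r f := funext fun A => by
    show resR _ (resR inf_le_left r * _) = r * resR _ _
    rw [map_mul, resR_resR, resR_self]
    rfl

theorem co_Φ (x : X) {W : X.Opens} (hW : W ≤ U x) (w : ↥(⋀[Γ(X, W)]^p Γ(E, W))) :
    co U s hs x hW (Φ p U s hs W w) = (B U s hs x W hW).equivFun w := by
  refine DFunLike.congr_fun (exteriorPower.linearMap_ext (AlternatingMap.ext fun v => funext fun A => ?_) :
    (co U s hs x hW).comp (Φ p U s hs W) = (B U s hs x W hW).equivFun.toLinearMap) w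
  show resR _ ((fam U s hs (Φ p U s hs W (exteriorPower.ιMulti _ p v))).1 x A) =
    (B U s hs x W hW).repr (exteriorPower.ιMulti _ p v) A
  rw [Φ_ιMulti]
  show resR _ (cw U s hs x _ _ _ A) = _
  rw [cw_cast U s hs x inf_le_right _ hW]
  simp only [res_res, res_self]
  rfl

theorem co_injective (x : X) {W : X.Opens} (hW : W ≤ U x) : Function.Injective (co (p := p) U s hs x hW) := by
  refine (injective_iff_map_eq_zero _).2 fun f hf => fam_inj U s hs fun y S => ?_
  have h := (fam U s hs f).2 x y (W ⊓ U y) inf_le_left (inf_le_left.trans hW) inf_le_right S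
  rw [resR_self] at h
  show _ = (0 : Γ(X, W ⊓ U y))
  rw [h]
  refine Finset.sum_eq_zero fun A _ => ?_
  have hA : resR (le_inf le_rfl hW) ((fam U s hs f).1 x A) = 0 := congrFun hf A
  have hA' := congrArg (resR (inf_le_left : W ⊓ U y ≤ W)) hA
  rw [resR_resR, map_zero] at hA'
  rw [hA', zero_mul]

theorem bijective_Φ_of_le (x : X) {W : X.Opens} (hW : W ≤ U x) : Function.Bijective (Φ p U s hs W) := by
  refine ⟨fun a b h => (B U s hs x W hW).equivFun.injective ?_, fun f => ?_⟩
  · rw [← co_Φ U s hs x hW a, ← co_Φ U s hs x hW b, h]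
  · refine ⟨(B U s hs x W hW).equivFun.symm (co U s hs x hW f), co_injective U s hs x hW ?_⟩
    rw [co_Φ, LinearEquiv.apply_symm_apply]

theorem isFinLocFree_L (hU : ∀ x, x ∈ U x) : FlatMod.IsFinLocFree (L p U s hs) := fun x => by
  let σ := (Fintype.equivFin (I p n x)).symm
  let t : Fin (Fintype.card (I p n x)) → Γ(L p U s hs, U x) := fun j =>
    Φ p U s hs (U x) (exteriorPower.ιMulti Γ(X, U x) p (bv U s hs x (U x) le_rfl (σ j)))
  refine ⟨U x, _, hU x, H23.Frame.exists_iso_of_frame t fun W hW => ?_⟩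
  let b := (B U s hs x W hW).reindex σ.symm
  have hkey : H23.Frame.comb (L p U s hs) t W hW = fun c => Φ p U s hs W (b.equivFun.symm c) := by
    funext c
    rw [Module.Basis.equivFun_symm_apply, map_sum]
    refine Finset.sum_congr rfl fun j _ => ?_
    rw [map_smul]
    congr 1
    show res (L p U s hs) hW (Φ p U s hs (U x) _) = _
    rw [res_Φ, show (fun i => res E hW (bv U s hs x (U x) le_rfl (σ j) i)) = bv U s hs x W hW (σ j) from
      funext fun i => res_bv U s hs x le_rfl hW _ i, ιMulti_bv, Module.Basis.reindex_apply]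
    rfl
  rw [hkey]
  exact (bijective_Φ_of_le U s hs x hW).comp b.equivFun.symm.bijective

theorem bijective_Φ (hE : Coh.IsQCoh E) (hU : ∀ x, x ∈ U x) (V : X.affineOpens) :
    Function.Bijective (Φ p U s hs V.1) := by
  have hLq : Coh.IsQCoh (L p U s hs) := QCoh.isQCoh_of_isFinLocFree (isFinLocFree_L U s hs hU)
  obtain ⟨S, hS, hSle⟩ := QCoh.exists_affine_basicOpen_le U (fun x => ⟨x, hU x⟩) V.2
  letI : ∀ r : S, Module Γ(X, V.1) Γ(L p U s hs, X.basicOpen r.1) := fun r => QCoh.basicModule r.1 (L p U s hs)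
  haveI : ∀ r : S, IsLocalizedModule.Away r.1 (QCoh.basicRes r.1 (L p U s hs)) := fun r =>
    QCoh.isLocalizedModule_basicRes r.1 hLq V.2
  haveI : ∀ r : S, IsLocalization.Away r.1 Γ(X, X.basicOpen r.1) := fun r => V.2.isLocalization_basicOpen r.1
  let Mp : S → Type u := fun r => Γ(X, X.basicOpen r.1) ⊗[Γ(X, V.1)] ↥(⋀[Γ(X, V.1)]^p Γ(E, V.1))
  let fM : ∀ r : S, ↥(⋀[Γ(X, V.1)]^p Γ(E, V.1)) →ₗ[Γ(X, V.1)] Mp r := fun r =>
    TensorProduct.mk Γ(X, V.1) Γ(X, X.basicOpen r.1) _ 1
  haveI : ∀ r : S, IsLocalizedModule.Away r.1 (fM r) := fun r =>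
    (isLocalizedModule_iff_isBaseChange (Submonoid.powers r.1) Γ(X, X.basicOpen r.1) (fM r)).2
      (TensorProduct.isBaseChange _ _ _)
  refine bijective_of_isLocalized_span S hS Mp fM (fun r : S => Γ(L p U s hs, X.basicOpen r.1))
    (fun r => QCoh.basicRes r.1 (L p U s hs)) (Φ p U s hs V.1) fun r => ?_
  obtain ⟨x, hx⟩ := hSle r.1 r.2
  let R := Γ(X, X.basicOpen r.1)
  letI := QCoh.basicModule r.1 E
  haveI : IsScalarTower Γ(X, V.1) R Γ(E, X.basicOpen r.1) := IsScalarTower.of_algebraMap_smul fun _ _ => rfl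
  haveI : IsScalarTower Γ(X, V.1) R Γ(L p U s hs, X.basicOpen r.1) := IsScalarTower.of_algebraMap_smul fun _ _ => rfl
  haveI := QCoh.isLocalizedModule_basicRes r.1 hE V.2
  have hb : IsBaseChange R (QCoh.basicRes r.1 E) := IsLocalizedModule.isBaseChange (Submonoid.powers r.1) R _
  let G : Γ(X, X.basicOpen r.1) ⊗[Γ(X, V.1)] ↥(⋀[Γ(X, V.1)]^p Γ(E, V.1)) →ₗ[R] Γ(L p U s hs, X.basicOpen r.1) :=
    Φ p U s hs (X.basicOpen r.1) ∘ₗ exteriorPower.map p hb.equiv.toLinearMap ∘ₗ
      Synt29.ExtBC.fwd Γ(X, V.1) R Γ(E, V.1) p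
  have hG : Function.Bijective G := by
    refine (bijective_Φ_of_le U s hs x hx).comp (Function.Bijective.comp (g := exteriorPower.map p hb.equiv.toLinearMap) ?_ (Synt29.ExtBC.bijective_fwd (A := Γ(X, V.1)) (B := R) (M := Γ(E, V.1)) p))
    refine Function.bijective_iff_has_inverse.2 ⟨exteriorPower.map p hb.equiv.symm.toLinearMap, fun z => ?_, fun z => ?_⟩
    · rw [← LinearMap.comp_apply, ← exteriorPower.map_comp]
      simp [exteriorPower.map_id]
    · rw [← LinearMap.comp_apply, ← exteriorPower.map_comp]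
      simp [exteriorPower.map_id]
  have heq : G.restrictScalars Γ(X, V.1) =
      IsLocalizedModule.map (Submonoid.powers r.1) (fM r) (QCoh.basicRes r.1 (L p U s hs)) (Φ p U s hs V.1) := by
    refine IsLocalizedModule.ext (Submonoid.powers r.1) (fM r)
      (IsLocalizedModule.map_units (QCoh.basicRes r.1 (L p U s hs))) ?_
    rw [IsLocalizedModule.map_comp]
    refine exteriorPower.linearMap_ext (AlternatingMap.ext fun v => ?_)
    show G (1 ⊗ₜ exteriorPower.ιMulti Γ(X, V.1) p v) =
      res (L p U s hs) (X.basicOpen_le r.1) (Φ p U s hs V.1 (exteriorPower.ιMulti Γ(X, V.1) p v))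
    rw [res_Φ]
    simp only [G, LinearMap.comp_apply]
    rw [Synt29.ExtBC.fwd_tmul, one_smul, exteriorPower.map_apply_ιMulti]
    congr 2
    funext i
    show hb.equiv ((1 : R) ⊗ₜ v i) = _
    rw [IsBaseChange.equiv_tmul, one_smul]
    rfl
  rw [← heq]
  exact hG

/-- Exterior powers of finite locally free modules exist and are finite locally free. -/
theorem exists_isExtPow (hE : FlatMod.IsFinLocFree E) (p : ℕ) :
    ∃ M : X.Modules, ExtPow.IsExtPow p E M ∧ FlatMod.IsFinLocFree M := by
  choose U n hU e using id hE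
  choose s hs using fun x => H23.Frame.exists_frame (e x).some
  refine ⟨L p U s hs, ⟨fun V => (LinearEquiv.ofBijective (Φ p U s hs V.1)
    (bijective_Φ U s hs (QCoh.isQCoh_of_isFinLocFree hE) hU V)).symm, fun V W h v => ?_⟩, isFinLocFree_L U s hs hU⟩
  exact res_Φ U s hs h v

end Groth.Agent.ExtPow7
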