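import Groth.Agent.ExtPow7.Basics
import Groth.Agent.InvX.GenLocusPull

/-!
# Inverse images of glued modules and of exterior powers
-/

set_option autoImplicit false
set_option linter.style.haveILetI false
set_option linter.unusedSectionVars false
set_option backward.isDefEq.respectTransparency false
set_option backward.isDefEq.respectTransparency.types false

universe u

open CategoryTheory CategoryTheory.Limits AlgebraicGeometry TopologicalSpace Opposite

noncomputable section

namespace Groth.Agent.ExtPow7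

open Groth.Agent Groth.Agent.AModX

namespace Glue

variable {X Y : Scheme.{u}} (f : X ⟶ Y)

theorem appLE_resR {V V' : Y.Opens} (h : V' ≤ V) {W : X.Opens} (e : W ≤ f ⁻¹ᵁ V') (a : Γ(Y, V)) :
    f.appLE V' W e (resR h a) = f.appLE V W (e.trans (f.preimage_mono h)) a :=
  ConcreteCategory.congr_hom (Scheme.Hom.map_appLE f e (homOfLE h).op) a

theorem resR_appLE {V : Y.Opens} {W W' : X.Opens} (h : W' ≤ W) (e : W ≤ f ⁻¹ᵁ V) (a : Γ(Y, V)) :
    resR h (f.appLE V W e a) = f.appLE V W' (h.trans e) a :=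
  ConcreteCategory.congr_hom (Scheme.Hom.appLE_map f e (homOfLE h).op) a

theorem resR_app_le {V : Y.Opens} {W : X.Opens} (h : W ≤ f ⁻¹ᵁ V) (a : Γ(Y, V)) :
    resR h (f.app V a) = f.appLE V W h a := by
  rw [Scheme.Hom.app_eq_appLE, resR_appLE]

variable {M : Y.Modules}

theorem pullElt_sum {V : Y.Opens} {ι : Type} [Fintype ι] (a : ι → Γ(Y, V)) (v : ι → Γ(M, V))
    {W : X.Opens} (h : W ≤ f ⁻¹ᵁ V) :
    res ((Scheme.Modules.pullback f).obj M) h (InvX.pullElt f (∑ i, a i • v i)) =
      ∑ i, f.appLE V W h (a i) • res ((Scheme.Modules.pullback f).obj M) h (InvX.pullElt f (v i)) := by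
  have hsum : InvX.pullElt f (∑ i, a i • v i) = ∑ i, InvX.pullElt f (a i • v i) :=
    map_sum (((Scheme.Modules.pullbackPushforwardAdjunction f).unit.app M).app V).hom _ _
  rw [hsum, map_sum]
  refine Finset.sum_congr rfl fun i _ => ?_
  rw [InvX.pullElt_smul, res_smul, resR_app_le]

theorem res_pullElt {V V' : Y.Opens} (h : V' ≤ V) (v : Γ(M, V)) {W : X.Opens} (e : W ≤ f ⁻¹ᵁ V') :
    res ((Scheme.Modules.pullback f).obj M) e (InvX.pullElt f (res M h v)) =
      res ((Scheme.Modules.pullback f).obj M) (e.trans (f.preimage_mono h)) (InvX.pullElt f v) := by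
  have h1 : InvX.pullElt f (res M h v) =
      res ((Scheme.Modules.pullback f).obj M) (f.preimage_mono h) (InvX.pullElt f v) :=
    app_res ((Scheme.Modules.pullbackPushforwardAdjunction f).unit.app M) h v
  rw [h1, res_res]

variable {U : Y → Y.Opens} {I : Y → Type} [∀ y, Fintype (I y)] [∀ y, DecidableEq (I y)] (t : Mat U I)

variable (U) in
/-- The opens of the inverse image cocycle. -/
abbrev pullU : X → X.Opens := fun x => f ⁻¹ᵁ U (f x)

theorem pullU_self (hU : ∀ y, y ∈ U y) (x : X) : x ∈ pullU f U x := hU (f x)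

theorem appLE_T {x y : Y} {V V' : Y.Opens} (h : V' ≤ V) {W : X.Opens} (e : W ≤ f ⁻¹ᵁ V')
    (hx : V ≤ U x) (hy : V ≤ U y) (A : I x) (B : I y) :
    f.appLE V W (e.trans (f.preimage_mono h)) (t.T x y V hx hy A B) =
      f.appLE V' W e (t.T x y V' (h.trans hx) (h.trans hy) A B) := by
  rw [← t.res x y V V' h hx hy, appLE_resR]

/-- The inverse image cocycle. -/
def Mat.pull : Mat (pullU f U) (fun x => I (f x)) where
  T x y W hx hy A B := f.appLE (U (f x) ⊓ U (f y)) W (le_inf hx hy)
    (t.T (f x) (f y) _ inf_le_left inf_le_right A B)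
  res x y W W' h hx hy A B := resR_appLE f h _ _
  trans x y z W hx hy hz A C := by
    have e : W ≤ f ⁻¹ᵁ (U (f x) ⊓ U (f y) ⊓ U (f z)) := le_inf (le_inf hx hy) hz
    rw [appLE_T f t (V := U (f x) ⊓ U (f z)) (le_inf (inf_le_left.trans inf_le_left) inf_le_right) e,
      t.trans (f x) (f y) (f z) _ _ (inf_le_left.trans inf_le_right) _ A C, map_sum]
    refine Finset.sum_congr rfl fun B _ => ?_
    rw [map_mul, ← appLE_T f t (V := U (f x) ⊓ U (f y)) inf_le_left e inf_le_left inf_le_right,
      ← appLE_T f t (V := U (f y) ⊓ U (f z)) (le_inf (inf_le_left.trans inf_le_right) inf_le_right) e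
        inf_le_left inf_le_right]
  self x W hx A B := by
    rw [t.self]
    split_ifs <;> simp

theorem pull_T {x y : X} {V : Y.Opens} (hx : V ≤ U (f x)) (hy : V ≤ U (f y)) {W : X.Opens} (e : W ≤ f ⁻¹ᵁ V)
    (A : I (f x)) (B : I (f y)) :
    (t.pull f).T x y W (e.trans (f.preimage_mono hx)) (e.trans (f.preimage_mono hy)) A B =
      f.appLE V W e (t.T (f x) (f y) V hx hy A B) :=
  appLE_T f t (le_inf hx hy) e inf_le_left inf_le_right A B

/-- The coordinates of a section, pulled back. -/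
def pullFam {V : Y.Opens} (v : grp t V) : grp (t.pull f) (f ⁻¹ᵁ V) :=
  ⟨fun x S => f.appLE (V ⊓ U (f x)) (f ⁻¹ᵁ V ⊓ f ⁻¹ᵁ U (f x)) le_rfl (v.1 (f x) S),
    fun x y W hW hx hy S => by
    have e : W ≤ f ⁻¹ᵁ (V ⊓ (U (f x) ⊓ U (f y))) := le_inf hW (le_inf hx hy)
    have h := v.2 (f x) (f y) (V ⊓ (U (f x) ⊓ U (f y))) inf_le_left (inf_le_right.trans inf_le_left)
      (inf_le_right.trans inf_le_right) S
    have h' := congrArg (f.appLE _ W e) h
    simp only [map_sum, map_mul, appLE_resR] at h'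
    simp only [resR_appLE]
    refine h'.trans (Finset.sum_congr rfl fun A _ => congrArg (_ * ·) ?_)
    exact (pull_T f t (inf_le_right.trans inf_le_left) (inf_le_right.trans inf_le_right) e A S).symm⟩

/-- The coordinates of a section, pulled back, as a homomorphism. -/
def pushApp (V : Y.Opens) : Γ(mod t, V) →+ Γ(mod (t.pull f), f ⁻¹ᵁ V) where
  toFun v := show grp (t.pull f) (f ⁻¹ᵁ V) from pullFam f t (fam t v)
  map_zero' := grp_ext (t.pull f) fun _ _ => map_zero (f.appLE _ _ _).hom
  map_add' a b := grp_ext (t.pull f) fun x S =>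
    map_add (f.appLE _ _ _).hom ((fam t a).1 (f x) S) ((fam t b).1 (f x) S)

theorem fam_pushApp {V : Y.Opens} (v : Γ(mod t, V)) (x : X) (S : I (f x)) :
    (fam (t.pull f) (pushApp f t V v)).1 x S =
      f.appLE (V ⊓ U (f x)) (f ⁻¹ᵁ V ⊓ f ⁻¹ᵁ U (f x)) le_rfl ((fam t v).1 (f x) S) := rfl

theorem pushApp_res {V V' : Y.Opens} (h : V' ≤ V) (v : Γ(mod t, V)) :
    pushApp f t V' (res (mod t) h v) = res (mod (t.pull f)) (f.preimage_mono h) (pushApp f t V v) := by
  refine fam_inj (t.pull f) fun x S => ?_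
  rw [fam_res, fam_pushApp, fam_pushApp, fam_res, appLE_resR, resR_appLE]

theorem pushApp_smul {V : Y.Opens} (r : Γ(Y, V)) (v : Γ(mod t, V)) :
    pushApp f t V (r • v) = f.app V r • pushApp f t V v := by
  refine fam_inj (t.pull f) fun x S => ?_
  show f.appLE _ _ _ (resR inf_le_left r * (fam t v).1 (f x) S) =
    resR inf_le_left (f.app V r) * f.appLE _ _ _ ((fam t v).1 (f x) S)
  rw [map_mul, appLE_resR, resR_app_le]

/-- The adjoint of the comparison. -/
def pushLift : mod t ⟶ (Scheme.Modules.pushforward f).obj (mod (t.pull f)) :=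
  ⟨PresheafOfModules.homMk
    { app := fun V => AddCommGrpCat.ofHom (pushApp f t V.unop)
      naturality := fun V V' i => AddCommGrpCat.hom_ext (AddMonoidHom.ext fun v =>
        pushApp_res f t i.unop.le v) }
    fun V r v => pushApp_smul f t r v⟩

theorem co_pushLift (x : X) {V : Y.Opens} (hV : V ≤ U (f x)) {W : X.Opens} (e : W ≤ f ⁻¹ᵁ V)
    (v : Γ(mod t, V)) (S : I (f x)) :
    co (t.pull f) x (e.trans (f.preimage_mono hV))
      (res (mod (t.pull f)) e ((pushLift f t).app V v)) S = f.appLE V W e (co t (f x) hV v S) := by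
  show resR _ ((fam (t.pull f) (res (mod (t.pull f)) e (pushApp f t V v))).1 x S) =
    f.appLE V W e (resR _ ((fam t v).1 (f x) S))
  rw [fam_res, fam_pushApp, resR_resR, resR_appLE, appLE_resR]

theorem hom_ext_sec {N : Y.Modules} {φ ψ : mod t ⟶ N} (hU : ∀ y, y ∈ U y)
    (h : ∀ (y : Y) (A : I y), φ.app (U y) (sec t y A) = ψ.app (U y) (sec t y A)) : φ = ψ := by
  refine Scheme.Modules.hom_ext _ _ fun V => AddCommGrpCat.hom_ext (AddMonoidHom.ext fun v => ?_)
  refine eq_of_locally (M := N) (φ.app V v) (ψ.app V v) fun q hq => ⟨V ⊓ U q, inf_le_left, ⟨hq, hU q⟩, ?_⟩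
  rw [← app_res φ, ← app_res ψ, sum_co t q inf_le_right (res (mod t) inf_le_left v), map_sum, map_sum]
  refine Finset.sum_congr rfl fun A _ => ?_
  rw [Scheme.Modules.Hom.app_smul, Scheme.Modules.Hom.app_smul, app_res φ, app_res ψ, h]

theorem bijective_sum_sec (y : Y) {W : Y.Opens} (hW : W ≤ U y) :
    Function.Bijective fun c : I y → Γ(Y, W) => ∑ A, c A • res (mod t) hW (sec t y A) := by
  refine Function.bijective_iff_has_inverse.2
    ⟨fun v => co t y hW v, fun c => funext fun B => ?_, fun v => (sum_co t y hW v).symm⟩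
  simp only [map_sum, map_smul, Finset.sum_apply, Pi.smul_apply, co_sec, smul_eq_mul, mul_ite, mul_one, mul_zero,
    Finset.sum_ite_eq, Finset.mem_univ, if_true]

theorem res_pullElt_sec (x y : X) (W : X.Opens) (hx : W ≤ pullU f U x) (hy : W ≤ pullU f U y) (A : I (f x)) :
    res ((Scheme.Modules.pullback f).obj (mod t)) hx (InvX.pullElt f (sec t (f x) A)) =
      ∑ S, (t.pull f).T x y W hx hy A S •
        res ((Scheme.Modules.pullback f).obj (mod t)) hy (InvX.pullElt f (sec t (f y) S)) := by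
  have e : W ≤ f ⁻¹ᵁ (U (f x) ⊓ U (f y)) := le_inf hx hy
  rw [← res_pullElt f (inf_le_left : U (f x) ⊓ U (f y) ≤ _) _ e,
    res_sec t (f x) (f y) inf_le_left inf_le_right A, pullElt_sum]
  refine Finset.sum_congr rfl fun S _ => ?_
  rw [res_pullElt]
  rfl

theorem co_sec_self (y : Y) (A B : I y) : co t y le_rfl (sec t y A) B = if B = A then 1 else 0 := by
  have h := co_sec t y le_rfl A B
  rwa [res_self] at h

theorem app_sec {N : Y.Modules} {φ : mod t ⟶ N} (e : ∀ y, I y → Γ(N, U y))
    (hφ : ∀ (y : Y) (W : Y.Opens) (hW : W ≤ U y) (v : Γ(mod t, W)),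
      φ.app W v = ∑ A, co t y hW v A • res N hW (e y A)) (y : Y) (A : I y) :
    φ.app (U y) (sec t y A) = e y A := by
  rw [hφ y _ le_rfl]
  simp only [co_sec_self, ite_smul, one_smul, zero_smul, Finset.sum_ite_eq', Finset.mem_univ, if_true, res_self]

/-- The inverse image of a glued module is glued by the inverse image cocycle, compatibly with frames. -/
theorem exists_pullIso (hU : ∀ y, y ∈ U y) :
    ∃ ψ : mod (t.pull f) ≅ (Scheme.Modules.pullback f).obj (mod t),
      ∀ (x : X) (A : I (f x)),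
        ψ.hom.app (pullU f U x) (sec (t.pull f) x A) = InvX.pullElt f (sec t (f x) A) := by
  obtain ⟨β, hβ⟩ := exists_lift (t.pull f) _ (fun x A => InvX.pullElt f (sec t (f x) A))
    (res_pullElt_sec f t) (pullU_self f hU)
  have hsec := app_sec (t.pull f) (fun x A => InvX.pullElt f (sec t (f x) A)) hβ
  let adj := Scheme.Modules.pullbackPushforwardAdjunction f
  let δ := (adj.homEquiv _ _).symm (pushLift f t)
  have hδ : adj.homEquiv _ _ δ = pushLift f t := Equiv.apply_symm_apply _ _
  have hδ' : ∀ (V : Y.Opens) (v : Γ(mod t, V)),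
      δ.app (f ⁻¹ᵁ V) (InvX.pullElt f v) = (pushLift f t).app V v := fun V v => by
    rw [← hδ, Adjunction.homEquiv_unit]
    rfl
  have h1 : β ≫ δ = 𝟙 _ := by
    refine hom_ext_sec (t.pull f) (pullU_self f hU) fun x A => ?_
    show δ.app _ (β.app _ (sec (t.pull f) x A)) = sec (t.pull f) x A
    refine co_injective (t.pull f) x le_rfl (funext fun S => ?_)
    rw [hsec, co_sec_self]
    refine (congrArg (fun v => co (t.pull f) x le_rfl v S)
      ((hδ' _ _).trans (res_self (M := mod (t.pull f)) _).symm)).trans ?_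
    refine (co_pushLift f t x (le_refl (U (f x))) le_rfl (sec t (f x) A) S).trans ?_
    rw [co_sec_self]
    split_ifs <;> simp
  have h2 : δ ≫ β = 𝟙 _ := by
    refine (adj.homEquiv _ _).injective ?_
    rw [Adjunction.homEquiv_naturality_right, hδ]
    refine hom_ext_sec t hU fun y A => ?_
    rw [Adjunction.homEquiv_id]
    show β.app (f ⁻¹ᵁ U y) ((pushLift f t).app (U y) (sec t y A)) = InvX.pullElt f (sec t y A)
    refine eq_of_locally (M := (Scheme.Modules.pullback f).obj (mod t)) _ _ fun q hq =>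
      ⟨f ⁻¹ᵁ (U y ⊓ U (f q)), f.preimage_mono inf_le_left, ⟨hq, hU (f q)⟩, ?_⟩
    rw [← app_res β, hβ q _ (f.preimage_mono inf_le_right),
      ← res_pullElt f (inf_le_left : U y ⊓ U (f q) ≤ U y) (sec t y A) le_rfl,
      res_sec t y (f q) inf_le_left inf_le_right A, pullElt_sum]
    refine Finset.sum_congr rfl fun S _ => ?_
    rw [res_pullElt]
    congr 1
    have hh : res (mod (t.pull f)) (f.preimage_mono inf_le_left) ((pushLift f t).app (U y) (sec t y A)) =
        res (mod (t.pull f)) le_rfl ((pushLift f t).app (U y ⊓ U (f q)) (res (mod t) inf_le_left (sec t y A))) := by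
      rw [res_self]
      exact (app_res (pushLift f t) inf_le_left (sec t y A)).symm
    rw [hh, co_pushLift f t q inf_le_right le_rfl, co_change t y (f q) inf_le_left inf_le_right]
    simp only [co_sec, ite_mul, one_mul, zero_mul, Finset.sum_ite_eq', Finset.mem_univ, if_true]
  exact ⟨⟨β, δ, h1, h2⟩, hsec⟩

end Glue

section ExtPow

variable {X Y : Scheme.{u}} (f : X ⟶ Y) {E : Y.Modules} {p : ℕ} {n : Y → ℕ} {U : Y → Y.Opens}
  {s : ∀ y, Fin (n y) → Γ(E, U y)} (hs : ∀ y, H23.Frame.IsFrame E (s y))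

include hs

/-- The cocycle of a module in its frames. -/
def frameMat : Glue.Mat U (fun y => Fin (n y)) where
  T x y W hx hy i j := (ExtShX.TopExt.bas (hs y) W hy).repr (res E hx (s x i)) j
  res x y W W' h hx hy i j := by
    show resR h _ = _
    rw [← ExtShX.TopExt.repr_res (hs y) hy h, res_res]
  trans x y z W hx hy hz i k := by
    conv_lhs => rw [← (ExtShX.TopExt.bas (hs y) W hy).sum_repr (res E hx (s x i))]
    simp only [map_sum, map_smul, Finsupp.finsetSum_apply, Finsupp.smul_apply, smul_eq_mul,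
      ExtShX.TopExt.bas_apply]
  self x W hx i j := by
    rw [← ExtShX.TopExt.bas_apply (hs x) W hx i, Module.Basis.repr_self, Finsupp.single_apply]

theorem res_frame (x y : Y) (W : Y.Opens) (hx : W ≤ U x) (hy : W ≤ U y) (i : Fin (n x)) :
    res E hx (s x i) = ∑ j, (frameMat hs).T x y W hx hy i j • res E hy (s y j) := by
  conv_lhs => rw [← (ExtShX.TopExt.bas (hs y) W hy).sum_repr (res E hx (s x i))]
  simp only [ExtShX.TopExt.bas_apply]
  rfl

/-- The inverse images of frames are frames. -/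
theorem isFrame_pullElt (hU : ∀ y, y ∈ U y) (x : X) :
    H23.Frame.IsFrame ((Scheme.Modules.pullback f).obj E) (U := Glue.pullU f U x)
      fun i => InvX.pullElt f (s (f x) i) := by
  intro W hW
  obtain ⟨φ, hφ⟩ := Glue.exists_lift (frameMat hs) E (fun y i => s y i) (res_frame hs) hU
  haveI := Glue.isIso_of_frame (frameMat hs) (fun y i => s y i) (fun y W hW => hs y W hW) φ hφ hU
  have hsec := Glue.app_sec (frameMat hs) (fun y i => s y i) hφ
  obtain ⟨ψ, hψ⟩ := Glue.exists_pullIso f (frameMat hs) hU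
  let g : Glue.mod ((frameMat hs).pull f) ≅ (Scheme.Modules.pullback f).obj E :=
    ψ ≪≫ (Scheme.Modules.pullback f).mapIso (asIso φ)
  have hb : Function.Bijective (g.hom.app W) :=
    (ConcreteCategory.isIso_iff_bijective _).1 (Scheme.Modules.Hom.isIso_iff_isIso_app.1 inferInstance W)
  have key : H23.Frame.comb ((Scheme.Modules.pullback f).obj E) (fun i => InvX.pullElt f (s (f x) i)) W hW =
      g.hom.app W ∘ fun c => ∑ i, c i • res (Glue.mod ((frameMat hs).pull f)) hW
        (Glue.sec ((frameMat hs).pull f) x i) := by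
    funext c
    show _ = g.hom.app W (∑ i, c i • res _ hW (Glue.sec _ x i))
    rw [map_sum]
    refine Finset.sum_congr rfl fun i _ => ?_
    rw [Scheme.Modules.Hom.app_smul]
    show c i • res _ hW (InvX.pullElt f (s (f x) i)) =
      c i • ((Scheme.Modules.pullback f).map φ).app W (ψ.hom.app W _)
    congr 1
    rw [app_res ψ.hom, hψ, app_res, InvX.map_pullElt, hsec]
  rw [key]
  exact hb.comp (Glue.bijective_sum_sec ((frameMat hs).pull f) x hW)

theorem repr_pullElt {U' : X → X.Opens} (hV : ∀ x, U' x ≤ Glue.pullU f U x)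
    (hs' : ∀ x, H23.Frame.IsFrame ((Scheme.Modules.pullback f).obj E) (U := U' x)
      fun i => res _ (hV x) (InvX.pullElt f (s (f x) i)))
    (x z : X) {W : X.Opens} (hx : W ≤ U' x) (hz : W ≤ U' z)
    (e : W ≤ f ⁻¹ᵁ (U (f x) ⊓ U (f z))) (i : Fin (n (f x))) (j : Fin (n (f z))) :
    (ExtShX.TopExt.bas (hs' z) W hz).repr (ExtShX.TopExt.bas (hs' x) W hx i) j =
      f.appLE _ W e ((ExtShX.TopExt.bas (hs (f z)) _ inf_le_right).repr
        (ExtShX.TopExt.bas (hs (f x)) (U (f x) ⊓ U (f z)) inf_le_left i) j) := by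
  rw [ExtShX.TopExt.bas_apply, ExtShX.TopExt.bas_apply (hs (f x)), res_res,
    ← Glue.res_pullElt f (inf_le_left : U (f x) ⊓ U (f z) ≤ _) _ e,
    res_frame hs (f x) (f z) _ inf_le_left inf_le_right i, Glue.pullElt_sum]
  have hb : ∀ k, res ((Scheme.Modules.pullback f).obj E) e
      (InvX.pullElt f (res E (inf_le_right : U (f x) ⊓ U (f z) ≤ _) (s (f z) k))) =
      ExtShX.TopExt.bas (hs' z) W hz k :=
    fun k => by rw [Glue.res_pullElt, ExtShX.TopExt.bas_apply, res_res]
  simp only [hb, Module.Basis.repr_sum_self]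
  simp only [Glue.Mat.pull, frameMat]
  congr 1
  exact congrArg (fun v => (ExtShX.TopExt.bas (hs (f z)) _ inf_le_right).repr v j)
    (res_frame hs (f x) (f z) _ inf_le_left inf_le_right i)

end ExtPow

/-- The inverse image of an exterior power is an exterior power of the inverse image. -/
theorem nonempty_iso_pullback_isExtPow {X Y : Scheme.{u}} (f : X ⟶ Y) {E : Y.Modules} {p : ℕ}
    (hE : FlatMod.IsFinLocFree E) {L : Y.Modules} (hL : ExtPow.IsExtPow p E L) {L' : X.Modules}
    (hL' : ExtPow.IsExtPow p ((Scheme.Modules.pullback f).obj E) L') :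
    Nonempty ((Scheme.Modules.pullback f).obj L ≅ L') := by
  obtain ⟨n, U, s, hU, hUa, hs⟩ := exists_affine_frames hE
  obtain ⟨a⟩ := nonempty_iso_mat U s hs hUa hU L hL
  obtain ⟨ψ, -⟩ := Glue.exists_pullIso f (mat p U s hs) hU
  choose Q hQ hxQ hle using fun x : X =>
    X.isBasis_affineOpens.exists_subset_of_mem_open (Glue.pullU_self f hU x) (Glue.pullU f U x).2
  choose V hVa hVQ using hQ
  have hV : ∀ x, V x ≤ Glue.pullU f U x := fun x z hz => hle x (hVQ x ▸ hz)
  have hxV : ∀ x, x ∈ V x := fun x => by have := hxQ x; rwa [← hVQ x] at this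
  let s' : ∀ x, Fin (n (f x)) → Γ((Scheme.Modules.pullback f).obj E, V x) := fun x i =>
    res _ (hV x) (InvX.pullElt f (s (f x) i))
  have hs' : ∀ x, H23.Frame.IsFrame _ (s' x) := fun x => (isFrame_pullElt f hs hU x).res (hV x)
  obtain ⟨b⟩ := nonempty_iso_mat (n := fun x => n (f x)) V s' hs' hVa hxV L' hL'
  suffices hc : Nonempty (Glue.mod (mat p V s' hs') ≅ Glue.mod ((mat p U s hs).pull f)) from
    ⟨(Scheme.Modules.pullback f).mapIso a.symm ≪≫ ψ.symm ≪≫ hc.some.symm ≪≫ b⟩
  refine Glue.nonempty_iso _ _ (fun x A => res _ (hV x) (Glue.sec ((mat p U s hs).pull f) x A)) (fun x W hW => ?_)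
    (fun x y W hx hy A => ?_) hxV
  · simp only [res_res]
    exact Glue.bijective_sum_sec ((mat p U s hs).pull f) x _
  · simp only [res_res]
    rw [Glue.res_sec ((mat p U s hs).pull f) x y (hx.trans (hV x)) (hy.trans (hV y)) A]
    refine Finset.sum_congr rfl fun S _ => congrArg (· • _) ?_
    have e : W ≤ f ⁻¹ᵁ (U (f x) ⊓ U (f y)) := le_inf (hx.trans (hV x)) (hy.trans (hV y))
    show f.appLE (U (f x) ⊓ U (f y)) W e (ExtPow7.T U s hs (f x) (f y) _ inf_le_left inf_le_right A S) =
      ExtPow7.T (n := fun x => n (f x)) V s' hs' x y W hx hy A S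
    rw [ExtPow7.T, ExtPow7.T, cw_eq_det, cw_eq_det, RingHom.map_det]
    congr 1
    ext i j
    simp only [bv, RingHom.mapMatrix_apply, Matrix.map_apply, Matrix.of_apply]
    exact (repr_pullElt f hs hV hs' x y hx hy e _ _).symm

end Groth.Agent.ExtPow7
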