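import Groth.Agent.ExtPow7.Glue
import Groth.Agent.QCoh.Sections

/-!
# The filtration of a block-triangular cocycle
-/

set_option autoImplicit false
set_option linter.style.haveILetI false
set_option linter.unusedSectionVars false
set_option backward.isDefEq.respectTransparency false
set_option backward.isDefEq.respectTransparency.types false

universe u

open CategoryTheory CategoryTheory.Limits AlgebraicGeometry TopologicalSpace Opposite

noncomputable section

namespace Groth.Agent.ExtPow7.Glue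

open Groth.Agent Groth.Agent.AModX

variable {X : Scheme.{u}} {U : X → X.Opens} {I : X → Type} [∀ x, Fintype (I x)] [∀ x, DecidableEq (I x)]
  (t : Mat U I) (deg : ∀ x, I x → ℕ)

/-- The matrices only raise the degree. -/
def IsGraded : Prop :=
  ∀ (x y : X) (W : X.Opens) (hx : W ≤ U x) (hy : W ≤ U y) (A : I x) (S : I y),
    deg y S < deg x A → t.T x y W hx hy A S = 0

theorem sum_subtype_eq {α : Type} [Fintype α] [DecidableEq α] (P : α → Prop) [DecidablePred P] {R : Type*}
    [AddCommMonoid R] (f : α → R) (h : ∀ a, ¬ P a → f a = 0) : ∑ a : {a // P a}, f a = ∑ a, f a :=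
  (Finset.sum_subtype (Finset.univ.filter P) (fun a => by simp) f).symm.trans
    (Finset.sum_filter_of_ne fun a _ ha => Classical.not_not.1 fun hn => ha (h a hn))

variable (hgr : IsGraded t deg)

/-- The part in degrees `≥ i`. -/
def sub (i : ℕ) : Mat U fun x => {A : I x // i ≤ deg x A} where
  T x y W hx hy A S := t.T x y W hx hy A.1 S.1
  res x y W W' h hx hy A B := t.res x y W W' h hx hy A.1 B.1
  trans x y z W hx hy hz A C := by
    rw [t.trans x y z W hx hy hz]
    refine (sum_subtype_eq (fun B => i ≤ deg y B) (fun B => t.T x y W hx hy A.1 B * t.T y z W hy hz B C.1)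
      fun B hB => ?_).symm
    rw [hgr x y W hx hy A.1 B (lt_of_lt_of_le (not_le.1 hB) A.2), zero_mul]
  self x W hx A B := by
    rw [t.self]
    simp only [Subtype.ext_iff]

/-- The part in degree `i`. -/
def quot (i : ℕ) : Mat U fun x => {A : I x // deg x A = i} where
  T x y W hx hy A S := t.T x y W hx hy A.1 S.1
  res x y W W' h hx hy A B := t.res x y W W' h hx hy A.1 B.1
  trans x y z W hx hy hz A C := by
    rw [t.trans x y z W hx hy hz]
    refine (sum_subtype_eq (fun B => deg y B = i) (fun B => t.T x y W hx hy A.1 B * t.T y z W hy hz B C.1)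
      fun B hB => ?_).symm
    rcases lt_or_gt_of_ne hB with h | h
    · rw [hgr x y W hx hy A.1 B (by rw [A.2]; exact h), zero_mul]
    · rw [hgr y z W hy hz B C.1 (by rw [C.2]; exact h), mul_zero]
  self x W hx A B := by
    rw [t.self]
    simp only [Subtype.ext_iff]

/-- The inclusion of the part in degrees `≥ i + 1`. -/
def incl (i : ℕ) : mod (sub t deg hgr (i + 1)) ⟶ mod (sub t deg hgr i) :=
  hom _ _ (fun _ B S => if B.1 = S.1 then 1 else 0) fun x y W hx hy A S => by
    simp only [sub, Int.cast_ite, Int.cast_one, Int.cast_zero, mul_ite, mul_one, mul_zero, ite_mul, one_mul, zero_mul]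
    have hr : ∀ C : {C : I x // i ≤ deg x C}, (if A.1 = C.1 then t.T x y W hx hy C.1 S.1 else 0) =
        if C = ⟨A.1, (Nat.le_succ i).trans A.2⟩ then t.T x y W hx hy A.1 S.1 else 0 := fun C => by
      by_cases h : A.1 = C.1
      · rw [if_pos h, if_pos (Subtype.ext h.symm), h]
      · rw [if_neg h, if_neg fun e => h (congrArg Subtype.val e).symm]
    rw [Finset.sum_congr rfl fun C _ => hr C, Finset.sum_ite_eq', if_pos (Finset.mem_univ _)]
    by_cases h : i + 1 ≤ deg y S.1
    · rw [Finset.sum_eq_single (⟨S.1, h⟩ : {B : I y // i + 1 ≤ deg y B}) (fun B _ hB => if_neg fun e => hB (Subtype.ext e))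
        (fun hn => absurd (Finset.mem_univ _) hn), if_pos rfl]
    · rw [hgr x y W hx hy A.1 S.1 (lt_of_lt_of_le (not_le.1 h) A.2)]
      exact Finset.sum_eq_zero fun B _ => if_neg fun (e : B.1 = S.1) => h (e ▸ B.2)

/-- The projection to the part in degree `i`. -/
def proj (i : ℕ) : mod (sub t deg hgr i) ⟶ mod (quot t deg hgr i) :=
  hom _ _ (fun _ B S => if B.1 = S.1 then 1 else 0) fun x y W hx hy A S => by
    simp only [sub, quot, Int.cast_ite, Int.cast_one, Int.cast_zero, mul_ite, mul_one, mul_zero, ite_mul, one_mul,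
      zero_mul]
    rw [Finset.sum_eq_single (⟨S.1, S.2.ge⟩ : {B : I y // i ≤ deg y B}) (fun B _ hB => if_neg fun e => hB (Subtype.ext e))
      (fun hn => absurd (Finset.mem_univ _) hn), if_pos rfl]
    by_cases h : deg x A.1 = i
    · rw [Finset.sum_eq_single (⟨A.1, h⟩ : {C : I x // deg x C = i})
        (fun C _ hC => if_neg fun e => hC (Subtype.ext e.symm)) (fun hn => absurd (Finset.mem_univ _) hn), if_pos rfl]
    · rw [hgr x y W hx hy A.1 S.1 (by rw [S.2]; exact lt_of_le_of_ne A.2 (Ne.symm h))]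
      exact (Finset.sum_eq_zero fun C _ => if_neg fun (e : A.1 = C.1) => h (e ▸ C.2)).symm

theorem co_incl (i : ℕ) (x : X) {W : X.Opens} (hW : W ≤ U x) (f : Γ(mod (sub t deg hgr (i + 1)), W))
    (S : {A : I x // i ≤ deg x A}) :
    co (sub t deg hgr i) x hW ((incl t deg hgr i).app W f) S =
      if h : i + 1 ≤ deg x S.1 then co (sub t deg hgr (i + 1)) x hW f ⟨S.1, h⟩ else 0 := by
  rw [incl, co_hom]
  simp only [Int.cast_ite, Int.cast_one, Int.cast_zero, mul_ite, mul_one, mul_zero]
  by_cases h : i + 1 ≤ deg x S.1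
  · rw [dif_pos h, Finset.sum_eq_single (⟨S.1, h⟩ : {B : I x // i + 1 ≤ deg x B})
      (fun B _ hB => if_neg fun e => hB (Subtype.ext e)) (fun hn => absurd (Finset.mem_univ _) hn), if_pos rfl]
  · rw [dif_neg h]
    exact Finset.sum_eq_zero fun B _ => if_neg fun (e : B.1 = S.1) => h (e ▸ B.2)

theorem co_proj (i : ℕ) (x : X) {W : X.Opens} (hW : W ≤ U x) (f : Γ(mod (sub t deg hgr i), W))
    (S : {A : I x // deg x A = i}) :
    co (quot t deg hgr i) x hW ((proj t deg hgr i).app W f) S = co (sub t deg hgr i) x hW f ⟨S.1, S.2.ge⟩ := by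
  rw [proj, co_hom]
  simp only [Int.cast_ite, Int.cast_one, Int.cast_zero, mul_ite, mul_one, mul_zero]
  rw [Finset.sum_eq_single (⟨S.1, S.2.ge⟩ : {B : I x // i ≤ deg x B}) (fun B _ hB => if_neg fun e => hB (Subtype.ext e))
    (fun hn => absurd (Finset.mem_univ _) hn), if_pos rfl]

theorem incl_proj (i : ℕ) (hU : ∀ x, x ∈ U x) : incl t deg hgr i ≫ proj t deg hgr i = 0 := by
  refine Scheme.Modules.hom_ext _ _ fun W => ?_
  ext f
  refine AModX.eq_of_locally _ _ fun q hq => ⟨W ⊓ U q, inf_le_left, ⟨hq, hU q⟩, ?_⟩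
  refine co_injective _ q inf_le_right (funext fun S => ?_)
  show co (quot t deg hgr i) q inf_le_right (res _ inf_le_left ((proj t deg hgr i).app W ((incl t deg hgr i).app W f))) S =
    co (quot t deg hgr i) q inf_le_right (res (mod (quot t deg hgr i)) (inf_le_left : W ⊓ U q ≤ W) 0) S
  rw [← app_res, ← app_res, co_proj, co_incl, dif_neg (by simp only [S.2]; omega), map_zero, map_zero, Pi.zero_apply]

theorem shortExact (i : ℕ) (hU : ∀ x, x ∈ U x) :
    (ShortComplex.mk (incl t deg hgr i) (proj t deg hgr i) (incl_proj t deg hgr i hU)).ShortExact := by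
  have hm : Mono (incl t deg hgr i) := QCoh.mono_of_app_injective _ fun W => (injective_iff_map_eq_zero _).2 fun f hf => by
    refine AModX.eq_of_locally _ _ fun q hq => ⟨W ⊓ U q, inf_le_left, ⟨hq, hU q⟩, ?_⟩
    rw [map_zero]
    refine co_injective _ q inf_le_right (funext fun S => ?_)
    have h := congrArg (fun g => co (sub t deg hgr i) q (inf_le_right : W ⊓ U q ≤ U q)
      (res (mod (sub t deg hgr i)) (inf_le_left : W ⊓ U q ≤ W) g) ⟨S.1, (Nat.le_succ i).trans S.2⟩) hf
    simp only [← app_res, map_zero, Pi.zero_apply, co_incl, dif_pos S.2] at h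
    rw [map_zero, Pi.zero_apply]
    exact h
  have he : Epi (proj t deg hgr i) := RelTildeX.epi_of_locally _ fun W s q hq => by
    obtain ⟨g, hg⟩ := co_surjective (sub t deg hgr i) q (inf_le_right : W ⊓ U q ≤ U q)
      (fun A => if h : deg q A.1 = i then co (quot t deg hgr i) q inf_le_right (res _ inf_le_left s) ⟨A.1, h⟩ else 0)
    refine ⟨W ⊓ U q, inf_le_left, ⟨hq, hU q⟩, g, co_injective _ q inf_le_right (funext fun S => ?_)⟩
    rw [co_proj, hg]
    exact dif_pos S.2
  refine { exact := RelTildeX.exact_of_locally _ fun W s hs q hq => ?_, mono_f := hm, epi_g := he }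
  let s' : Γ(mod (sub t deg hgr i), W ⊓ U q) := res _ inf_le_left s
  obtain ⟨g, hg⟩ := co_surjective (sub t deg hgr (i + 1)) q (inf_le_right : W ⊓ U q ≤ U q)
    (fun A => co (sub t deg hgr i) q inf_le_right s' ⟨A.1, (Nat.le_succ i).trans A.2⟩)
  refine ⟨W ⊓ U q, inf_le_left, ⟨hq, hU q⟩, g, co_injective _ q inf_le_right (funext fun S => ?_)⟩
  show co (sub t deg hgr i) q _ ((incl t deg hgr i).app _ g) S = co (sub t deg hgr i) q _ s' S
  rw [co_incl]
  by_cases h : i + 1 ≤ deg q S.1
  · rw [dif_pos h, hg]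
  · rw [dif_neg h]
    have hd : deg q S.1 = i := le_antisymm (by omega) S.2
    have h0 := co_proj t deg hgr i q inf_le_right s' ⟨S.1, hd⟩
    rw [show (proj t deg hgr i).app (W ⊓ U q) s' = 0 from by
      show (proj t deg hgr i).app _ (res _ _ s) = _
      rw [app_res, show (proj t deg hgr i).app W s = 0 from hs, map_zero], map_zero, Pi.zero_apply] at h0
    exact h0

theorem isZero_sub_of_lt {i : ℕ} (h : ∀ x A, deg x A < i) (hU : ∀ x, x ∈ U x) : IsZero (mod (sub t deg hgr i)) :=
  RelTildeX.isZero_of_locally _ fun x => ⟨U x, hU x, fun W hW => by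
    haveI : IsEmpty {A : I x // i ≤ deg x A} := ⟨fun A => absurd A.2 (by have := h x A.1; omega)⟩
    exact (co_injective (sub t deg hgr i) x hW).subsingleton⟩

end Groth.Agent.ExtPow7.Glue
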