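import Mathlib

/-!
# Subsets of a disjoint union of two finite intervals and the determinant of their minors
-/

set_option autoImplicit false

namespace Groth.Agent.ExtPow7

open Set.powersetCard

variable {a b p : ℕ}

theorem card_val_lt {n i : ℕ} (h : i ≤ n) : (Finset.univ.filter fun k : Fin n => k.1 < i).card = i := by
  rw [show (Finset.univ.filter fun k : Fin n => k.1 < i) = (Finset.univ : Finset (Fin i)).map (Fin.castLEEmb h) from
    Finset.ext fun k => by
      simp only [Finset.mem_filter, Finset.mem_univ, true_and, Finset.mem_map, Fin.castLEEmb_apply]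
      exact ⟨fun hk => ⟨⟨k.1, hk⟩, rfl⟩, fun ⟨l, hl⟩ => hl ▸ l.2⟩, Finset.card_map, Finset.card_univ, Fintype.card_fin]

/-- The elements of a subset, in increasing order. -/
noncomputable def emb {n : ℕ} (A : Set.powersetCard (Fin n) p) : Fin p ↪o Fin n := ofFinEmbEquiv.symm A

theorem ext_emb {n : ℕ} {A B : Set.powersetCard (Fin n) p} (h : ∀ k, emb A k = emb B k) : A = B :=
  (ofFinEmbEquiv (n := p) (I := Fin n)).symm.injective (DFunLike.ext _ _ h)

theorem emb_mk {n : ℕ} (f : Fin p ↪o Fin n) (k : Fin p) : emb (ofFinEmbEquiv f) k = f k := by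
  rw [emb, Equiv.symm_apply_apply]

/-- The number of elements in the first interval. -/
noncomputable def deg (A : Set.powersetCard (Fin (a + b)) p) : ℕ :=
  (Finset.univ.filter fun k => (emb A k).1 < a).card

theorem deg_le (A : Set.powersetCard (Fin (a + b)) p) : deg A ≤ p :=
  (Finset.card_le_univ _).trans_eq (Fintype.card_fin p)

theorem lt_deg_iff (A : Set.powersetCard (Fin (a + b)) p) (k : Fin p) : k.1 < deg A ↔ (emb A k).1 < a := by
  constructor
  · intro h
    by_contra hk
    have hsub : (Finset.univ.filter fun l => (emb A l).1 < a) ⊆ Finset.Iio k := fun l hl => by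
      rw [Finset.mem_filter] at hl
      rw [Finset.mem_Iio]
      by_contra hlk
      exact hk (lt_of_le_of_lt ((emb A).monotone (not_lt.1 hlk)) hl.2)
    have := Finset.card_le_card hsub
    rw [Fin.card_Iio] at this
    exact absurd h (not_lt.2 this)
  · intro h
    have hsub : Finset.Iic k ⊆ Finset.univ.filter fun l => (emb A l).1 < a := fun l hl => by
      rw [Finset.mem_Iic] at hl
      exact Finset.mem_filter.2 ⟨Finset.mem_univ _, lt_of_le_of_lt ((emb A).monotone hl) h⟩
    have := Finset.card_le_card hsub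
    rw [Fin.card_Iic] at this
    exact this

theorem not_lt_deg_iff (A : Set.powersetCard (Fin (a + b)) p) (k : Fin p) : deg A ≤ k.1 ↔ a ≤ (emb A k).1 := by
  rw [← not_lt, ← not_lt, lt_deg_iff]

section Pre

variable {i j : ℕ} (hij : i + j = p) (A : Set.powersetCard (Fin (a + b)) p) (hA : deg A = i)
include hij hA

/-- The part in the first interval. -/
noncomputable def pre' : Set.powersetCard (Fin a) i :=
  ofFinEmbEquiv (OrderEmbedding.ofStrictMono
    (fun k : Fin i => (⟨(emb A ⟨k.1, by omega⟩).1, (lt_deg_iff A _).1 (by rw [hA]; exact k.2)⟩ : Fin a))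
    (fun k l h => (emb A).strictMono (show (⟨k.1, _⟩ : Fin p) < ⟨l.1, _⟩ from h)))

/-- The part in the second interval. -/
noncomputable def pre'' : Set.powersetCard (Fin b) j :=
  ofFinEmbEquiv (OrderEmbedding.ofStrictMono
    (fun k : Fin j => (⟨(emb A ⟨i + k.1, by omega⟩).1 - a, by
      have h1 := (emb A ⟨i + k.1, by omega⟩).2
      have h2 := (not_lt_deg_iff A ⟨i + k.1, by omega⟩).1 (by rw [hA]; exact Nat.le_add_right _ _)
      omega⟩ : Fin b))
    (fun k l h => by
      have h1 : (emb A ⟨i + k.1, by omega⟩).1 < (emb A ⟨i + l.1, by omega⟩).1 :=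
        (emb A).strictMono (show (⟨i + k.1, _⟩ : Fin p) < ⟨i + l.1, _⟩ from Nat.add_lt_add_left h i)
      have h2 := (not_lt_deg_iff A ⟨i + k.1, by omega⟩).1 (by rw [hA]; exact Nat.le_add_right _ _)
      show (emb A _).1 - a < (emb A _).1 - a
      omega))

theorem emb_pre' (k : Fin i) : emb A ⟨k.1, by omega⟩ = Fin.castAdd b (emb (pre' hij A hA) k) := by
  rw [pre', emb_mk]
  rfl

theorem emb_pre'' (k : Fin j) : emb A ⟨i + k.1, by omega⟩ = Fin.natAdd a (emb (pre'' hij A hA) k) := by
  rw [pre'', emb_mk]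
  have h2 := (not_lt_deg_iff A ⟨i + k.1, by omega⟩).1 (by rw [hA]; exact Nat.le_add_right _ _)
  refine Fin.ext ?_
  show _ = a + ((emb A ⟨i + k.1, _⟩).1 - a)
  omega

end Pre

variable {i j : ℕ} (hij : i + j = p)

include hij in
theorem bijective_pre :
    Function.Bijective fun A : {A : Set.powersetCard (Fin (a + b)) p // deg A = i} =>
      (pre' hij A.1 A.2, pre'' hij A.1 A.2) := by
  constructor
  · intro A B h
    obtain ⟨h1, h2⟩ := Prod.ext_iff.1 h
    refine Subtype.ext (ext_emb fun k => ?_)
    by_cases hk : k.1 < i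
    · rw [show k = (⟨(⟨k.1, hk⟩ : Fin i).1, k.2⟩ : Fin p) from rfl, emb_pre' hij A.1 A.2 ⟨k.1, hk⟩,
        emb_pre' hij B.1 B.2 ⟨k.1, hk⟩]
      exact congrArg (fun C => Fin.castAdd b (emb C _)) h1
    · rw [show k = (⟨i + (⟨k.1 - i, by omega⟩ : Fin j).1, by omega⟩ : Fin p) from Fin.ext (by simp only; omega),
        emb_pre'' hij A.1 A.2 _, emb_pre'' hij B.1 B.2 _]
      exact congrArg (fun C => Fin.natAdd a (emb C _)) h2
  · rintro ⟨A', A''⟩
    let f : Fin p → Fin (a + b) := fun k =>
      if hk : k.1 < i then Fin.castAdd b (emb A' ⟨k.1, hk⟩) else Fin.natAdd a (emb A'' ⟨k.1 - i, by omega⟩)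
    have hf : StrictMono f := fun k l h => by
      have hkl : k.1 < l.1 := h
      simp only [f]
      by_cases hk : k.1 < i <;> by_cases hl : l.1 < i
      · rw [dif_pos hk, dif_pos hl]
        exact (emb A').strictMono (show (⟨k.1, hk⟩ : Fin i) < ⟨l.1, hl⟩ from hkl)
      · rw [dif_pos hk, dif_neg hl]
        exact Fin.lt_def.2 (lt_of_lt_of_le (emb A' ⟨k.1, hk⟩).2 (Nat.le_add_right a _))
      · omega
      · rw [dif_neg hk, dif_neg hl]
        exact Nat.add_lt_add_left ((emb A'').strictMono
          (show (⟨k.1 - i, _⟩ : Fin j) < ⟨l.1 - i, _⟩ from by show k.1 - i < l.1 - i; omega)) a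
    let A : Set.powersetCard (Fin (a + b)) p := ofFinEmbEquiv (OrderEmbedding.ofStrictMono f hf)
    have hA : ∀ k, emb A k = f k := fun k => by rw [emb_mk]; rfl
    have hdeg : deg A = i := by
      have h : (Finset.univ.filter fun k => (emb A k).1 < a) = Finset.univ.filter fun k : Fin p => k.1 < i := by
        refine Finset.filter_congr fun k _ => ?_
        rw [hA]
        simp only [f]
        by_cases hk : k.1 < i
        · simp [hk]
        · simp [hk]
      rw [deg, h]
      exact card_val_lt (by omega : i ≤ p)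
    refine ⟨⟨A, hdeg⟩, Prod.ext (ext_emb fun k => ?_) (ext_emb fun k => ?_)⟩
    · have h := emb_pre' hij A hdeg k
      rw [hA] at h
      simp only [f, dif_pos k.2] at h
      exact (Fin.castAdd_injective a b h).symm
    · have h := emb_pre'' hij A hdeg k
      rw [hA] at h
      simp only [f, dif_neg (show ¬ i + k.1 < i by omega)] at h
      refine (Fin.natAdd_injective b a h).symm.trans (congrArg (emb A'') (Fin.ext ?_))
      show i + k.1 - i = k.1
      omega

variable {R : Type*} [CommRing R]

theorem det_minor_eq_zero (M : Matrix (Fin p) (Fin p) R) {a' b' : ℕ} (A : Set.powersetCard (Fin (a + b)) p)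
    (S : Set.powersetCard (Fin (a' + b')) p)
    (h0 : ∀ k l, (emb A k).1 < a → a' ≤ (emb S l).1 → M k l = 0) (h : deg S < deg A) : M.det = 0 := by
  rw [Matrix.det_apply]
  refine Finset.sum_eq_zero fun σ _ => ?_
  have : ∃ k : Fin p, (σ k).1 < deg A ∧ deg S ≤ k.1 := by
    by_contra hc
    push Not at hc
    have hsub : (Finset.univ.filter fun k : Fin p => (σ k).1 < deg A) ⊆ Finset.univ.filter fun k : Fin p => k.1 < deg S :=
      fun k hk => Finset.mem_filter.2 ⟨Finset.mem_univ _, hc k (Finset.mem_filter.1 hk).2⟩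
    have hcard := Finset.card_le_card hsub
    have e1 : (Finset.univ.filter fun k : Fin p => (σ k).1 < deg A).card = deg A := by
      rw [show (Finset.univ.filter fun k : Fin p => (σ k).1 < deg A) =
        (Finset.univ.filter fun k : Fin p => k.1 < deg A).map σ.symm.toEmbedding from by ext; simp, Finset.card_map]
      exact card_val_lt (deg_le A)
    have e2 : (Finset.univ.filter fun k : Fin p => k.1 < deg S).card = deg S :=
      card_val_lt (deg_le S)
    rw [e1, e2] at hcard
    omega
  obtain ⟨k, hk1, hk2⟩ := this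
  rw [Finset.prod_eq_zero (f := fun l => M (σ l) l) (Finset.mem_univ k)
    (h0 (σ k) k ((lt_deg_iff A _).1 hk1) ((not_lt_deg_iff S _).1 hk2)), smul_zero]

include hij in
theorem det_minor_eq_mul (M : Matrix (Fin p) (Fin p) R) {a' b' : ℕ} (A : Set.powersetCard (Fin (a + b)) p)
    (S : Set.powersetCard (Fin (a' + b')) p)
    (hA : deg A = i) (hS : deg S = i)
    (h0 : ∀ k l, (emb A k).1 < a → a' ≤ (emb S l).1 → M k l = 0) :
    M.det = (Matrix.of fun k l : Fin i => M ⟨k.1, by omega⟩ ⟨l.1, by omega⟩).det *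
      (Matrix.of fun k l : Fin j => M ⟨i + k.1, by omega⟩ ⟨i + l.1, by omega⟩).det := by
  let e : Fin i ⊕ Fin j ≃ Fin p := finSumFinEquiv.trans (finCongr hij)
  rw [← Matrix.det_submatrix_equiv_self e M, ← Matrix.det_fromBlocks_zero₁₂ _
    (Matrix.of fun (k : Fin j) (l : Fin i) => M (e (Sum.inr k)) (e (Sum.inl l))) _]
  refine congrArg Matrix.det ?_
  ext k l
  rcases k with k | k <;> rcases l with l | l <;> try rfl
  refine h0 _ _ ((lt_deg_iff A _).1 (by rw [hA]; exact k.2)) ((not_lt_deg_iff S _).1 ?_)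
  rw [hS]
  exact Nat.le_add_right _ _

end Groth.Agent.ExtPow7
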