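import Groth.Agent.ExtPow7.Cocycle
import Groth.Agent.ExtPow7.Graded
import Groth.Agent.ExtPow7.Split
import Groth.Agent.ExtPow7.TensorFrame
import Groth.Agent.QCoh.HHExact
import Groth.Agent.KZ.Basic
import Groth.Agent.KFlatLib.Perfect.Tensor

/-!
# The filtration of the exterior powers of an extension
-/

set_option autoImplicit false
set_option linter.style.haveILetI false
set_option linter.unusedSectionVars false
set_option backward.isDefEq.respectTransparency false
set_option backward.isDefEq.respectTransparency.types false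

universe u

open CategoryTheory CategoryTheory.Limits AlgebraicGeometry TopologicalSpace Opposite

noncomputable section

namespace Groth.Agent.ExtPow7

open Groth.Agent Groth.Agent.AModX

variable {X : Scheme.{u}} {S : ShortComplex X.Modules} (hS : S.ShortExact)

include hS in
theorem exists_preimage (U : X.Opens) (z : Γ(S.X₂, U)) (hz : S.g.app U z = 0) : ∃ w, S.f.app U w = z := by
  let F : X.Modules ⥤ AddCommGrpCat.{u} := Scheme.Modules.toPresheaf X ⋙ (evaluation _ _).obj (op U)
  haveI : PreservesFiniteLimits (Scheme.Modules.toPresheaf X) := by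
    haveI : PreservesLimitsOfSize.{u, u} (Scheme.Modules.toPresheaf X) := inferInstance
    exact PreservesLimitsOfSize.preservesFiniteLimits _
  haveI : PreservesFiniteLimits ((evaluation (TopologicalSpace.Opens X)ᵒᵖ AddCommGrpCat.{u}).obj (op U)) :=
    ⟨fun J _ _ => inferInstance⟩
  haveI : PreservesFiniteLimits F := comp_preservesFiniteLimits _ _
  haveI : F.Additive := Functor.additive_of_preserves_binary_products _
  have h := ((Functor.preservesFiniteLimits_iff_forall_exact_map_and_mono F).1 inferInstance S hS).1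
  exact (ShortComplex.ab_exact_iff _).1 h z hz

include hS in
theorem exists_local_lift (U : X.Opens) (y : Γ(S.X₃, U)) (x : X) (hx : x ∈ U) :
    ∃ (V : X.Opens) (i : V ≤ U), x ∈ V ∧ ∃ t : Γ(S.X₂, V), S.g.app V t = res S.X₃ i y := by
  haveI := (QCoh.toAb_shortExact hS).epi_g
  obtain ⟨V, i, ⟨t, ht⟩, hxV⟩ := (TopCat.Presheaf.isLocallySurjective_iff _).1
    ((TopCat.Sheaf.isLocallySurjective_iff_epi (X := X.toPresheafedSpace.carrier)
      ((QCoh.toAbFunctor X).map S.g)).2 this) U y x hx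
  exact ⟨V, i, hxV, t, ht⟩

variable {n' n'' : X → ℕ} {U : X → X.Opens} (s' : ∀ x, Fin (n' x) → Γ(S.X₁, U x))
  (t : ∀ x, Fin (n'' x) → Γ(S.X₂, U x))

/-- The adapted frame. -/
def app2 (x : X) : Fin (n' x + n'' x) → Γ(S.X₂, U x) := Fin.append (fun k => S.f.app (U x) (s' x k)) (t x)

theorem res_app_castAdd (x : X) {W : X.Opens} (hW : W ≤ U x) (k : Fin (n' x)) :
    res S.X₂ hW (app2 s' t x (Fin.castAdd _ k)) = S.f.app W (res S.X₁ hW (s' x k)) := by
  rw [app2, Fin.append_left, ← AModX.app_res]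

theorem res_app_natAdd (x : X) {W : X.Opens} (hW : W ≤ U x) (k : Fin (n'' x)) :
    S.g.app W (res S.X₂ hW (app2 s' t x (Fin.natAdd _ k))) = res S.X₃ hW (S.g.app (U x) (t x k)) := by
  rw [app2, Fin.append_right, AModX.app_res]

theorem app_g_f {W : X.Opens} (w : Γ(S.X₁, W)) : S.g.app W (S.f.app W w) = 0 :=
  congrArg (fun ψ : S.X₁ ⟶ S.X₃ => ψ.app W w) S.zero

variable (hs' : ∀ x, H23.Frame.IsFrame S.X₁ (s' x))
  (hs'' : ∀ x, H23.Frame.IsFrame S.X₃ (fun k => S.g.app (U x) (t x k)))

theorem smul_app {M N : X.Modules} (φ : M ⟶ N) {W : X.Opens} (r : Γ(X, W)) (m : Γ(M, W)) :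
    φ.app W (r • m) = r • φ.app W m :=
  (φ.val.app (op W)).hom.map_smul r m

theorem g_comb (x : X) {W : X.Opens} (hW : W ≤ U x) (c : Fin (n' x + n'' x) → Γ(X, W)) :
    S.g.app W (∑ l, c l • res S.X₂ hW (app2 s' t x l)) =
      ∑ k, c (Fin.natAdd _ k) • res S.X₃ hW (S.g.app (U x) (t x k)) := by
  rw [map_sum, Fin.sum_univ_add]
  rw [Finset.sum_eq_zero (fun k _ => by rw [smul_app, res_app_castAdd, app_g_f, smul_zero]), zero_add]
  exact Finset.sum_congr rfl fun k _ => by rw [smul_app, res_app_natAdd]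

theorem f_comb (x : X) {W : X.Opens} (hW : W ≤ U x) (c : Fin (n' x) → Γ(X, W)) :
    S.f.app W (∑ k, c k • res S.X₁ hW (s' x k)) =
      ∑ k, c k • res S.X₂ hW (app2 s' t x (Fin.castAdd _ k)) := by
  rw [map_sum]
  exact Finset.sum_congr rfl fun k _ => by rw [smul_app, res_app_castAdd]

include hS hs' hs'' in
theorem isFrame_app2 (x : X) : H23.Frame.IsFrame S.X₂ (app2 s' t x) := fun W hW => by
  haveI := hS.mono_f
  refine ⟨fun c c' h => ?_, fun z => ?_⟩
  · change ∑ l, c l • res S.X₂ hW (app2 s' t x l) = ∑ l, c' l • res S.X₂ hW (app2 s' t x l) at h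
    have h2 : (fun k => c (Fin.natAdd _ k)) = fun k => c' (Fin.natAdd _ k) := (hs'' x W hW).1 (by
      have := congrArg (S.g.app W) h
      rw [g_comb, g_comb] at this
      exact this)
    have h1 : (fun k => c (Fin.castAdd _ k)) = fun k => c' (Fin.castAdd _ k) := (hs' x W hW).1 (by
      refine QCoh.app_injective S.f W ?_
      show S.f.app W (∑ k, _ • res S.X₁ hW (s' x k)) = S.f.app W (∑ k, _ • res S.X₁ hW (s' x k))
      rw [f_comb s' t x hW, f_comb s' t x hW]
      have e2 : ∑ k, c (Fin.natAdd (n' x) k) • res S.X₂ hW (app2 s' t x (Fin.natAdd (n' x) k)) =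
          ∑ k, c' (Fin.natAdd (n' x) k) • res S.X₂ hW (app2 s' t x (Fin.natAdd (n' x) k)) :=
        Finset.sum_congr rfl fun k _ => congrArg (· • _) (congrFun h2 k)
      rw [Fin.sum_univ_add, Fin.sum_univ_add, e2] at h
      exact add_right_cancel h)
    funext l
    induction l using Fin.addCases with
    | left k => exact congrFun h1 k
    | right k => exact congrFun h2 k
  · obtain ⟨c'', hc''⟩ := (hs'' x W hW).2 (S.g.app W z)
    let z₁ := z - ∑ k, c'' k • res S.X₂ hW (app2 s' t x (Fin.natAdd _ k))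
    have h0 : S.g.app W z₁ = 0 := by
      rw [map_sub, map_sum, sub_eq_zero, ← hc'']
      exact Finset.sum_congr rfl fun k _ => by rw [smul_app, res_app_natAdd]; rfl
    obtain ⟨w, hw⟩ := exists_preimage hS W z₁ h0
    obtain ⟨c', hc'⟩ := (hs' x W hW).2 w
    refine ⟨Fin.append c' c'', ?_⟩
    show ∑ l, Fin.append c' c'' l • res S.X₂ hW (app2 s' t x l) = z
    rw [Fin.sum_univ_add]
    simp only [Fin.append_left, Fin.append_right]
    rw [← f_comb s' t x hW, show ∑ k, c' k • res S.X₁ hW (s' x k) = w from hc', hw, sub_add_cancel]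

variable (hs : ∀ x, H23.Frame.IsFrame S.X₂ (app2 s' t x))

theorem repr_f (y : X) {W : X.Opens} (hW : W ≤ U y) (v : Γ(S.X₁, W)) :
    (∀ k, (ExtShX.TopExt.bas (hs y) W hW).repr (S.f.app W v) (Fin.castAdd _ k) =
      (ExtShX.TopExt.bas (hs' y) W hW).repr v k) ∧
    ∀ k, (ExtShX.TopExt.bas (hs y) W hW).repr (S.f.app W v) (Fin.natAdd _ k) = 0 := by
  let c := fun k => (ExtShX.TopExt.bas (hs' y) W hW).repr v k
  have hv : S.f.app W v = ∑ l, Fin.append c 0 l • ExtShX.TopExt.bas (hs y) W hW l := by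
    rw [← (ExtShX.TopExt.bas (hs' y) W hW).sum_repr v, Fin.sum_univ_add]
    simp only [Fin.append_left, Fin.append_right, Pi.zero_apply, zero_smul, Finset.sum_const_zero, add_zero,
      ExtShX.TopExt.bas_apply]
    rw [f_comb s' t y hW]
  have hr : ∀ l, (ExtShX.TopExt.bas (hs y) W hW).repr (S.f.app W v) l = Fin.append c 0 l := fun l => by
    rw [hv, Module.Basis.repr_sum_self]
  exact ⟨fun k => (hr _).trans (Fin.append_left _ _ k), fun k => (hr _).trans (Fin.append_right _ _ k)⟩

theorem repr_g (y : X) {W : X.Opens} (hW : W ≤ U y) (z : Γ(S.X₂, W)) (k : Fin (n'' y)) :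
    (ExtShX.TopExt.bas (hs y) W hW).repr z (Fin.natAdd _ k) =
      (ExtShX.TopExt.bas (hs'' y) W hW).repr (S.g.app W z) k := by
  have hz : S.g.app W z = ∑ l, (ExtShX.TopExt.bas (hs y) W hW).repr z (Fin.natAdd _ l) •
      ExtShX.TopExt.bas (hs'' y) W hW l := by
    conv_lhs => rw [← (ExtShX.TopExt.bas (hs y) W hW).sum_repr z]
    simp only [ExtShX.TopExt.bas_apply]
    exact g_comb s' t y hW _
  rw [hz, Module.Basis.repr_sum_self]

section Block

variable {p : ℕ}

include hs' in
theorem minor_zero (x y : X) {W : X.Opens} (hx : W ≤ U x) (hy : W ≤ U y)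
    (A : I p (fun x => n' x + n'' x) x) (B : I p (fun x => n' x + n'' x) y) (k l : Fin p)
    (hk : (emb A k).1 < n' x) (hl : n' y ≤ (emb B l).1) :
    (ExtShX.TopExt.bas (hs y) W hy).repr (bv U (app2 s' t) hs x W hx A k) (emb B l) = 0 := by
  rw [show emb B l = Fin.natAdd (n' y) ⟨(emb B l).1 - n' y, by
      have h : (emb B l).1 < n' y + n'' y := (emb B l).2
      omega⟩ from
    Fin.ext (show _ = n' y + ((emb B l).1 - n' y) by omega)]
  rw [bv, ExtShX.TopExt.bas_apply, show (Set.powersetCard.ofFinEmbEquiv.symm A) k = emb A k from rfl,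
    show emb A k = Fin.castAdd _ ⟨(emb A k).1, hk⟩ from rfl, res_app_castAdd]
  exact (repr_f s' t hs' hs y hy _).2 _

include hs' in
theorem isGraded : Glue.IsGraded (mat p U (app2 s' t) hs) fun _ A => deg A := by
  intro x y W hx hy A B h
  show cw U (app2 s' t) hs y W hy (bv U (app2 s' t) hs x W hx A) B = 0
  rw [cw_eq_det]
  exact det_minor_eq_zero _ A B (fun k l hk hl => minor_zero s' t hs' hs x y hx hy A B k l hk hl) h

include hs' hs'' in
theorem quot_T {i j : ℕ} (hij : i + j = p) (x y : X) {W : X.Opens} (hx : W ≤ U x) (hy : W ≤ U y)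
    (A : {A : I p (fun x => n' x + n'' x) x // deg A = i}) (B : {A : I p (fun x => n' x + n'' x) y // deg A = i}) :
    (mat p U (app2 s' t) hs).T x y W hx hy A.1 B.1 =
      T U s' hs' x y W hx hy (pre' hij A.1 A.2) (pre' hij B.1 B.2) *
        T U (fun x k => S.g.app (U x) (t x k)) hs'' x y W hx hy (pre'' hij A.1 A.2) (pre'' hij B.1 B.2) := by
  show cw U (app2 s' t) hs y W hy (bv U (app2 s' t) hs x W hx A.1) B.1 = cw U s' hs' y W hy _ _ * cw U _ hs'' y W hy _ _
  rw [cw_eq_det, cw_eq_det, cw_eq_det]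
  refine (det_minor_eq_mul hij _ A.1 B.1 A.2 B.2
    fun k l hk hl => minor_zero s' t hs' hs x y hx hy A.1 B.1 k l hk hl).trans ?_
  refine congrArg₂ (fun P Q => Matrix.det P * Matrix.det Q) ?_ ?_
  · refine Matrix.ext fun k l => ?_
    show (ExtShX.TopExt.bas (hs y) W hy).repr (bv U (app2 s' t) hs x W hx A.1 ⟨k.1, _⟩) (emb B.1 ⟨l.1, _⟩) =
      (ExtShX.TopExt.bas (hs' y) W hy).repr (bv U s' hs' x W hx (pre' hij A.1 A.2) k) (emb (pre' hij B.1 B.2) l)
    rw [emb_pre' hij B.1 B.2 l, bv, ExtShX.TopExt.bas_apply,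
      show (Set.powersetCard.ofFinEmbEquiv.symm A.1) (⟨k.1, by omega⟩ : Fin p) = _ from emb_pre' hij A.1 A.2 k,
      res_app_castAdd, (repr_f s' t hs' hs y hy _).1, bv, ExtShX.TopExt.bas_apply]
    rfl
  · refine Matrix.ext fun k l => ?_
    show (ExtShX.TopExt.bas (hs y) W hy).repr (bv U (app2 s' t) hs x W hx A.1 ⟨i + k.1, _⟩) (emb B.1 ⟨i + l.1, _⟩) =
      (ExtShX.TopExt.bas (hs'' y) W hy).repr (bv U _ hs'' x W hx (pre'' hij A.1 A.2) k) (emb (pre'' hij B.1 B.2) l)
    rw [emb_pre'' hij B.1 B.2 l, bv, ExtShX.TopExt.bas_apply,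
      show (Set.powersetCard.ofFinEmbEquiv.symm A.1) (⟨i + k.1, by omega⟩ : Fin p) = _ from emb_pre'' hij A.1 A.2 k,
      repr_g s' t hs'' hs y hy, res_app_natAdd, bv, ExtShX.TopExt.bas_apply]
    rfl

end Block

include hS in
theorem exists_adapted (h₁ : FlatMod.IsFinLocFree S.X₁) (h₃ : FlatMod.IsFinLocFree S.X₃) :
    ∃ (n' n'' : X → ℕ) (U : X → X.Opens) (s' : ∀ x, Fin (n' x) → Γ(S.X₁, U x))
      (t : ∀ x, Fin (n'' x) → Γ(S.X₂, U x)), (∀ x, x ∈ U x) ∧ (∀ x, IsAffineOpen (U x)) ∧
      (∀ x, H23.Frame.IsFrame S.X₁ (s' x)) ∧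
      ∀ x, H23.Frame.IsFrame S.X₃ (fun k => S.g.app (U x) (t x k)) := by
  choose U₁ n₁ hU₁ e₁ using h₁
  choose U₃ n₃ hU₃ e₃ using h₃
  choose s₁ hs₁ using fun x => H23.Frame.exists_frame (e₁ x).some
  choose s₃ hs₃ using fun x => H23.Frame.exists_frame (e₃ x).some
  choose V hV hxV t₀ ht₀ using fun (x : X) (k : Fin (n₃ x)) => exists_local_lift hS (U₃ x) (s₃ x k) x (hU₃ x)
  have hO : ∀ x, x ∈ U₁ x ⊓ (U₃ x ⊓ Finset.univ.inf (V x)) := fun x => ⟨hU₁ x, hU₃ x, by
    show x ∈ ((Finset.univ.inf (V x) : X.Opens) : Set X)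
    simp [TopologicalSpace.Opens.coe_finset_inf, hxV]⟩
  choose Q hQ hxQ hQle using fun x : X => X.isBasis_affineOpens.exists_subset_of_mem_open (hO x)
    (U₁ x ⊓ (U₃ x ⊓ Finset.univ.inf (V x))).2
  choose W hW hWQ using hQ
  have hle : ∀ x, W x ≤ U₁ x ⊓ (U₃ x ⊓ Finset.univ.inf (V x)) := fun x => by
    intro z hz
    exact hQle x (hWQ x ▸ hz)
  have hk : ∀ x k, W x ≤ V x k := fun x k =>
    (hle x).trans (inf_le_right.trans (inf_le_right.trans (Finset.inf_le (Finset.mem_univ k))))
  refine ⟨n₁, n₃, W, fun x k => res S.X₁ ((hle x).trans inf_le_left) (s₁ x k),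
    fun x k => res S.X₂ (hk x k) (t₀ x k), fun x => by have := hxQ x; rwa [← hWQ x] at this, hW, fun x => (hs₁ x).res _,
    fun x => ?_⟩
  have he : (fun k => S.g.app (W x) (res S.X₂ (hk x k) (t₀ x k))) =
      fun k => res S.X₃ ((hle x).trans (inf_le_right.trans inf_le_left)) (s₃ x k) := funext fun k => by
    rw [AModX.app_res, ht₀, res_res]
  rw [he]
  exact (hs₃ x).res _

include hS in
/-- The classes of the exterior powers of an extension. -/
theorem cl_extPow_ses (h₁ : FlatMod.IsFinLocFree S.X₁) (h₃ : FlatMod.IsFinLocFree S.X₃)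
    (L' L'' : ℕ → X.Modules) (L : X.Modules) {p : ℕ}
    (hL' : ∀ i, FlatMod.IsFinLocFree (L' i) ∧ ExtPow.IsExtPow i S.X₁ (L' i))
    (hL : FlatMod.IsFinLocFree L ∧ ExtPow.IsExtPow p S.X₂ L)
    (hL'' : ∀ i, FlatMod.IsFinLocFree (L'' i) ∧ ExtPow.IsExtPow i S.X₃ (L'' i)) :
    KZero.clSub (fun M : X.Modules => FlatMod.IsFinLocFree M) L =
      ∑ i ∈ Finset.range (p + 1), KZero.clSub (fun M : X.Modules => FlatMod.IsFinLocFree M)
        (((DCoh.tensorBi (X := X)).obj (L' i)).obj (L'' (p - i))) := by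
  let P : ObjectProperty X.Modules := fun M => FlatMod.IsFinLocFree M
  have hiso : ∀ {A B : X.Modules}, (A ≅ B) → FlatMod.IsFinLocFree A → KZero.clSub P A = KZero.clSub P B :=
    fun {A B} e hA => by
      have hB : P B := fun x => by
        obtain ⟨V, m, hxV, ⟨f⟩⟩ := hA x
        exact ⟨V, m, hxV, ⟨(Scheme.Modules.restrictFunctor V.ι).mapIso e.symm ≪≫ f⟩⟩
      exact KZ.clSub_iso P e hA hB (isZero_zero _) (KFlatLib.isFinLocFree_of_isZero (isZero_zero _))
  obtain ⟨n', n'', U, s', t, hU, hUa, hs', hs''⟩ := exists_adapted hS h₁ h₃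
  have hs := isFrame_app2 hS s' t hs' hs''
  let M := mat p U (app2 s' t) hs
  let d : ∀ x, I p (fun x => n' x + n'' x) x → ℕ := fun _ A => deg A
  have hgr : Glue.IsGraded M d := isGraded s' t hs' hs
  let G : ℕ → X.Modules := fun i => Glue.mod (Glue.sub M d hgr i)
  have hG : ∀ i, P (G i) := fun i => Glue.isFinLocFree _ hU
  obtain ⟨eL⟩ := nonempty_iso_mat U (app2 s' t) hs hUa hU L hL.2
  have h0 : KZero.clSub P (G 0) = KZero.clSub P L := by
    obtain ⟨e0⟩ := Glue.nonempty_iso (Glue.sub M d hgr 0) (Glue.mod M)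
      (fun x A => Glue.sec M x A.1) (fun x W hW => by
        have hb : (fun c : {A : I p (fun x => n' x + n'' x) x // 0 ≤ d x A} → Γ(X, W) =>
            ∑ A, c A • res (Glue.mod M) hW (Glue.sec M x A.1)) =
            fun c => (LinearEquiv.ofBijective _ (Glue.bijective_co M x hW)).symm fun A => c ⟨A, Nat.zero_le _⟩ :=
          funext fun c => by
            refine (LinearEquiv.eq_symm_apply _).2 (funext fun B => ?_)
            show Glue.co M x hW (∑ A, c A • res (Glue.mod M) hW (Glue.sec M x A.1)) B = _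
            simp only [map_sum, map_smul, Finset.sum_apply, Pi.smul_apply, Glue.co_sec, smul_eq_mul, mul_ite,
              mul_one, mul_zero]
            rw [Finset.sum_eq_single (⟨B, Nat.zero_le _⟩ : {A // 0 ≤ d x A})
              (fun A _ hA => if_neg fun e => hA (Subtype.ext e.symm)) (fun hn => absurd (Finset.mem_univ _) hn),
              if_pos rfl]
        rw [hb]
        exact (LinearEquiv.bijective _).comp
          ⟨fun c c' h => funext fun A => congrFun h A.1, fun c => ⟨fun A => c A.1, rfl⟩⟩)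
      (fun x y W hx hy A => by
        refine Glue.co_injective M y hy (funext fun B => ?_)
        rw [Glue.co_change M x y hx hy, map_sum]
        simp only [map_smul, Finset.sum_apply, Pi.smul_apply, Glue.co_sec, smul_eq_mul, ite_mul, one_mul, zero_mul,
          mul_ite, mul_one, mul_zero, Finset.sum_ite_eq', Finset.mem_univ, if_true]
        rw [Finset.sum_eq_single (⟨B, Nat.zero_le _⟩ : {A // 0 ≤ d y A})
          (fun A _ hA => if_neg fun e => hA (Subtype.ext e.symm)) (fun hn => absurd (Finset.mem_univ _) hn), if_pos rfl]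
        rfl) hU
    exact hiso (e0 ≪≫ eL) (hG 0)
  have htop : KZero.clSub P (G (p + 1)) = 0 :=
    KZ.clSub_isZero P (Glue.isZero_sub_of_lt M d hgr (fun x A => Nat.lt_succ_of_le (deg_le A)) hU)
  have hq : ∀ i ∈ Finset.range (p + 1), KZero.clSub P (Glue.mod (Glue.quot M d hgr i)) =
      KZero.clSub P (((DCoh.tensorBi (X := X)).obj (L' i)).obj (L'' (p - i))) := by
    intro i hi
    have hij : i + (p - i) = p := by
      have := Finset.mem_range.1 hi
      omega
    let s₃ : ∀ x, Fin (n'' x) → Γ(S.X₃, U x) := fun x k => S.g.app (U x) (t x k)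
    obtain ⟨a'⟩ := nonempty_iso_mat U s' hs' hUa hU (L' i) (hL' i).2
    obtain ⟨a''⟩ := nonempty_iso_mat U s₃ hs'' hUa hU (L'' (p - i)) (hL'' (p - i)).2
    let N' := Glue.mod (mat i U s' hs')
    let N'' := Glue.mod (mat (p - i) U s₃ hs'')
    obtain ⟨e⟩ := Glue.nonempty_iso (Glue.quot M d hgr i) (CohB1.tensorMod N' N'')
      (fun x A => InvX.tmul (Glue.sec (mat i U s' hs') x (pre' hij A.1 A.2))
        (Glue.sec (mat (p - i) U s₃ hs'') x (pre'' hij A.1 A.2))) (fun x W hW => by
        let σ₁ := (Fintype.equivFin (I i n' x)).symm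
        let σ₂ := (Fintype.equivFin (I (p - i) n'' x)).symm
        have f₁ : H23.Frame.IsFrame N' (fun k => Glue.sec (mat i U s' hs') x (σ₁ k)) := fun W hW => by
          exact Glue.frame_sec (mat i U s' hs') x σ₁ W hW
        have f₂ : H23.Frame.IsFrame N'' (fun k => Glue.sec (mat (p - i) U s₃ hs'') x (σ₂ k)) := fun W hW => by
          exact Glue.frame_sec (mat (p - i) U s₃ hs'') x σ₂ W hW
        have f := isFrame_tmul f₁ f₂ finProdFinEquiv.symm W hW
        let τ : Fin (Fintype.card (I i n' x) * Fintype.card (I (p - i) n'' x)) ≃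
            {A : I p (fun x => n' x + n'' x) x // d x A = i} :=
          (finProdFinEquiv.symm.trans (σ₁.prodCongr σ₂)).trans (Equiv.ofBijective _ (bijective_pre hij)).symm
        have hτ : ∀ q, (pre' hij (τ q).1 (τ q).2, pre'' hij (τ q).1 (τ q).2) =
            (σ₁ (finProdFinEquiv.symm q).1, σ₂ (finProdFinEquiv.symm q).2) := fun q =>
          Equiv.ofBijective_apply_symm_apply _ (bijective_pre hij) _
        refine (congrArg Function.Bijective (funext fun c => ?_)).mpr (f.comp (τ.arrowCongr (Equiv.refl _)).symm.bijective)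
        show _ = H23.Frame.comb _ _ W hW fun q => c (τ q)
        rw [H23.Frame.comb, ← τ.sum_comp]
        refine Finset.sum_congr rfl fun q _ => congrArg (c (τ q) • ·) ?_
        rw [show pre' hij (τ q).1 (τ q).2 = _ from (Prod.ext_iff.1 (hτ q)).1,
          show pre'' hij (τ q).1 (τ q).2 = _ from (Prod.ext_iff.1 (hτ q)).2]
        rfl)
      (fun x y W hx hy A => by
        rw [InvX.res_tmul, Glue.res_sec (mat i U s' hs') x y hx hy, Glue.res_sec (mat (p - i) U s₃ hs'') x y hx hy,
          tmul_sum_smul, ← (Equiv.ofBijective _ (bijective_pre hij)).sum_comp]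
        refine Finset.sum_congr rfl fun B _ => ?_
        rw [InvX.res_tmul]
        exact congrArg (· • _) (quot_T s' t hs' hs'' hs hij x y hx hy A B).symm) hU
    let b : CohB1.tensorMod N' N'' ≅ ((DCoh.tensorBi (X := X)).obj (L' i)).obj (L'' (p - i)) :=
      ((DCoh.tensorBi (X := X)).mapIso a').app N'' ≪≫ ((DCoh.tensorBi (X := X)).obj (L' i)).mapIso a''
    exact hiso (e ≪≫ b) (Glue.isFinLocFree _ hU)
  have hrel : ∀ i, KZero.clSub P (G i) = KZero.clSub P (G (i + 1)) + KZero.clSub P (Glue.mod (Glue.quot M d hgr i)) :=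
    fun i => KZ.clSub_ses P (Glue.shortExact M d hgr i hU) (hG _) (hG _) (Glue.isFinLocFree _ hU)
  have key : ∀ m, KZero.clSub P (G 0) =
      KZero.clSub P (G m) + ∑ i ∈ Finset.range m, KZero.clSub P (Glue.mod (Glue.quot M d hgr i)) := by
    intro m
    induction m with
    | zero => rw [Finset.range_zero, Finset.sum_empty, add_zero]
    | succ m ih => rw [ih, hrel m, Finset.sum_range_succ]; abel
  rw [← h0, key (p + 1), htop, zero_add]
  exact Finset.sum_congr rfl hq

end Groth.Agent.ExtPow7
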