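import Groth.Agent.H23.CocycleMod
import Groth.Agent.H23.Frame
import Groth.Agent.H23.ModLoc
import Groth.Agent.RelTildeX.SheafCrit
import Mathlib

/-!
# Locally free modules glued from matrix cocycles
-/

set_option autoImplicit false
set_option linter.style.haveILetI false
set_option linter.unusedSectionVars false
set_option backward.isDefEq.respectTransparency false
set_option backward.isDefEq.respectTransparency.types false

universe u

open CategoryTheory CategoryTheory.Limits AlgebraicGeometry TopologicalSpace Opposite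

noncomputable section

namespace Groth.Agent.ExtPow7.Glue

open Groth.Agent Groth.Agent.AModX

variable {X : Scheme.{u}}

/-- A matrix cocycle on a family of opens. -/
structure Mat (U : X → X.Opens) (I : X → Type) [∀ x, Fintype (I x)] [∀ x, DecidableEq (I x)] where
  /-- The transition matrices. -/
  T : ∀ (x y : X) (W : X.Opens), W ≤ U x → W ≤ U y → I x → I y → Γ(X, W)
  res : ∀ (x y : X) (W W' : X.Opens) (h : W' ≤ W) (hx : W ≤ U x) (hy : W ≤ U y) (A : I x) (B : I y),
    resR h (T x y W hx hy A B) = T x y W' (h.trans hx) (h.trans hy) A B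
  trans : ∀ (x y z : X) (W : X.Opens) (hx : W ≤ U x) (hy : W ≤ U y) (hz : W ≤ U z) (A : I x) (C : I z),
    T x z W hx hz A C = ∑ B, T x y W hx hy A B * T y z W hy hz B C
  self : ∀ (x : X) (W : X.Opens) (hx : W ≤ U x) (A B : I x), T x x W hx hx A B = if A = B then 1 else 0

variable {U : X → X.Opens} {I J : X → Type} [∀ x, Fintype (I x)] [∀ x, DecidableEq (I x)]
  [∀ x, Fintype (J x)] [∀ x, DecidableEq (J x)] (t : Mat U I) (t' : Mat U J)

variable (U I) in
/-- Families of coordinates. -/
abbrev Fam (W : X.Opens) : Type u := ∀ x : X, I x → Γ(X, W ⊓ U x)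

/-- Families transforming like coordinates. -/
def IsCo {W : X.Opens} (f : Fam U I W) : Prop :=
  ∀ (x y : X) (V : X.Opens) (hV : V ≤ W) (hx : V ≤ U x) (hy : V ≤ U y) (S : I y),
    resR (le_inf hV hy) (f y S) = ∑ A, resR (le_inf hV hx) (f x A) * t.T x y V hx hy A S

/-- The sections. -/
def grp (W : X.Opens) : AddSubgroup (Fam U I W) where
  carrier := {f | IsCo t f}
  add_mem' := fun {a b} ha hb x y V hV hx hy S => by
    show resR _ (a y S + b y S) = ∑ A, resR _ (a x A + b x A) * _
    simp only [map_add, add_mul, Finset.sum_add_distrib, ← ha x y V hV hx hy S, ← hb x y V hV hx hy S]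
  zero_mem' := fun x y V hV hx hy S => by
    show resR _ 0 = ∑ A, resR _ 0 * _
    simp only [map_zero, zero_mul, Finset.sum_const_zero]
  neg_mem' := fun {a} ha x y V hV hx hy S => by
    show resR _ (-(a y S)) = ∑ A, resR _ (-(a x A)) * _
    simp only [map_neg, neg_mul, Finset.sum_neg_distrib, ← ha x y V hV hx hy S]

theorem grp_ext {W : X.Opens} {a b : grp t W} (h : ∀ x S, a.1 x S = b.1 x S) : a = b :=
  Subtype.ext (funext fun x => funext (h x))

instance instModule (W : X.Opens) : Module Γ(X, W) (grp t W) where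
  smul r a := ⟨fun x S => resR inf_le_left r * a.1 x S, fun x y V hV hx hy S => by
    rw [map_mul, a.2 x y V hV hx hy S, resR_resR, Finset.mul_sum]
    refine Finset.sum_congr rfl fun A _ => ?_
    rw [map_mul, resR_resR]
    exact (mul_assoc _ _ _).symm⟩
  one_smul a := grp_ext t fun x S => by
    show resR _ 1 * _ = _
    rw [map_one, one_mul]
  mul_smul r s a := grp_ext t fun x S => by
    show resR _ (r * s) * _ = resR _ r * (resR _ s * _)
    rw [map_mul, mul_assoc]
  smul_zero r := grp_ext t fun x S => by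
    show resR _ r * 0 = 0
    rw [mul_zero]
  smul_add r a b := grp_ext t fun x S => by
    show resR _ r * (a.1 x S + b.1 x S) = resR _ r * a.1 x S + resR _ r * b.1 x S
    rw [mul_add]
  add_smul r s a := grp_ext t fun x S => by
    show resR _ (r + s) * _ = resR _ r * _ + resR _ s * _
    rw [map_add, add_mul]
  zero_smul a := grp_ext t fun x S => by
    show resR _ 0 * _ = 0
    rw [map_zero, zero_mul]

/-- Restriction. -/
def gres {W W' : X.Opens} (h : W' ≤ W) : grp t W →+ grp t W' where
  toFun a := ⟨fun x S => resR (inf_le_inf_right _ h) (a.1 x S), fun x y V hV hx hy S => by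
    simp only [resR_resR]
    exact a.2 x y V (hV.trans h) hx hy S⟩
  map_zero' := grp_ext t fun _ _ => map_zero _
  map_add' _ _ := grp_ext t fun _ _ => map_add _ _ _

/-- The presheaf. -/
def psh : (X.Opens)ᵒᵖ ⥤ Ab.{u} where
  obj W := AddCommGrpCat.of (grp t W.unop)
  map {W W'} i := AddCommGrpCat.ofHom (gres t i.unop.le)
  map_id W := by
    refine AddCommGrpCat.hom_ext (AddMonoidHom.ext fun a => grp_ext t fun x S => ?_)
    exact resR_self ((show grp t W.unop from a).1 x S)
  map_comp i j := by
    refine AddCommGrpCat.hom_ext (AddMonoidHom.ext fun a => grp_ext t fun x S => ?_)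
    exact (resR_resR _ _ ((show grp t _ from a).1 x S)).symm

instance (W : (X.Opens)ᵒᵖ) : Module (X.ringCatSheaf.obj.obj W) ((psh t).obj W) :=
  inferInstanceAs (Module Γ(X, W.unop) (grp t W.unop))

/-- The presheaf of modules. -/
def pmod : X.PresheafOfModules :=
  PresheafOfModules.ofPresheaf (R := X.ringCatSheaf.obj) (psh t) fun W W' i r a =>
    grp_ext t fun x S => by
      show resR _ (resR _ (show Γ(X, W.unop) from r) * _) = resR _ (resR _ (show Γ(X, W.unop) from r)) * resR _ _
      rw [map_mul, resR_resR, resR_resR]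

theorem isSheaf : Presheaf.IsSheaf (Opens.grothendieckTopology X) (pmod t).presheaf := by
  refine (TopCat.Presheaf.isSheaf_iff_isSheafUniqueGluing (X := X.toPresheafedSpace.carrier)
    (psh t)).2 fun K W sf hsf => ?_
  have hex : ∀ (x : X) (S : I x), ∃! g : Γ(X, iSup W ⊓ U x),
      ∀ j, resR (inf_le_inf_right _ (le_iSup W j)) g = (sf j).1 x S := fun x S => by
    refine existsUnique_glue (M := Coh.structureModule X) (fun j => W j ⊓ U x)
      (fun j => inf_le_inf_right _ (le_iSup W j)) (fun q hq => ?_) (fun j => (sf j).1 x S) fun i j => ?_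
    · obtain ⟨j, hj⟩ := Opens.mem_iSup.1 hq.1
      exact ⟨j, hj, hq.2⟩
    · have h := congrArg (fun a : grp t (W i ⊓ W j) => a.1 x S) (hsf i j)
      have h' := congrArg (resR (le_inf (le_inf (inf_le_left.trans inf_le_left) (inf_le_right.trans inf_le_left))
        (inf_le_left.trans inf_le_right) : (W i ⊓ U x) ⊓ (W j ⊓ U x) ≤ (W i ⊓ W j) ⊓ U x)) h
      change resR _ (resR _ _) = resR _ (resR _ _) at h'
      rw [resR_resR, resR_resR] at h'
      exact h'
  choose g hg huniq using hex
  refine ⟨⟨g, fun x y V hV hx hy S => ?_⟩, fun j => grp_ext t fun x S => hg x S j, fun a ha =>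
    grp_ext t fun x S => huniq x S _ fun j => congrArg (fun a : grp t (W j) => a.1 x S) (ha j)⟩
  refine eq_of_locally (M := Coh.structureModule X) _ _ fun q hq => ?_
  obtain ⟨j, hj⟩ := Opens.mem_iSup.1 (hV hq)
  refine ⟨V ⊓ W j, inf_le_left, ⟨hq, hj⟩, ?_⟩
  show resR inf_le_left (resR _ (g y S)) = resR inf_le_left (∑ A, resR _ (g x A) * _)
  simp only [map_sum, map_mul, resR_resR, t.res]
  have h := (sf j).2 x y (V ⊓ W j) inf_le_right (inf_le_left.trans hx) (inf_le_left.trans hy) S
  simp only [← hg, resR_resR] at h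
  exact h

/-- The glued module. -/
def mod : X.Modules := ⟨pmod t, isSheaf t⟩

/-- A section as a family. -/
def fam {W : X.Opens} (f : Γ(mod t, W)) : grp t W := f

theorem fam_inj {W : X.Opens} {f g : Γ(mod t, W)} (h : ∀ x S, (fam t f).1 x S = (fam t g).1 x S) : f = g :=
  (show Function.Injective (fam t (W := W)) from fun _ _ e => e) (grp_ext t h)

theorem fam_res {W W' : X.Opens} (h : W' ≤ W) (f : Γ(mod t, W)) (x : X) (S : I x) :
    (fam t (res (mod t) h f)).1 x S = resR (inf_le_inf_right _ h) ((fam t f).1 x S) := rfl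

/-- The coordinates at `x` of a section. -/
def co (x : X) {W : X.Opens} (hW : W ≤ U x) : Γ(mod t, W) →ₗ[Γ(X, W)] (I x → Γ(X, W)) where
  toFun f A := resR (le_inf le_rfl hW) ((fam t f).1 x A)
  map_add' f g := funext fun A => map_add _ _ _
  map_smul' r f := funext fun A => by
    show resR _ (resR inf_le_left r * _) = r * resR _ _
    rw [map_mul, resR_resR, resR_self]
    rfl

theorem co_res (x : X) {W W' : X.Opens} (hW : W ≤ U x) (h : W' ≤ W) (f : Γ(mod t, W)) (A : I x) :
    co t x (h.trans hW) (res (mod t) h f) A = resR h (co t x hW f A) := by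
  show resR _ ((fam t (res (mod t) h f)).1 x A) = resR h (resR _ _)
  rw [fam_res, resR_resR, resR_resR]

theorem co_change (x y : X) {W : X.Opens} (hx : W ≤ U x) (hy : W ≤ U y) (f : Γ(mod t, W)) (S : I y) :
    co t y hy f S = ∑ A, co t x hx f A * t.T x y W hx hy A S :=
  (fam t f).2 x y W le_rfl hx hy S

theorem co_injective (x : X) {W : X.Opens} (hW : W ≤ U x) : Function.Injective (co t x hW) := by
  refine (injective_iff_map_eq_zero _).2 fun f hf => fam_inj t fun y S => ?_
  have h := (fam t f).2 x y (W ⊓ U y) inf_le_left (inf_le_left.trans hW) inf_le_right S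
  rw [resR_self] at h
  show _ = (0 : Γ(X, W ⊓ U y))
  rw [h]
  refine Finset.sum_eq_zero fun A _ => ?_
  have hA : resR (le_inf le_rfl hW) ((fam t f).1 x A) = 0 := congrFun hf A
  have hA' := congrArg (resR (inf_le_left : W ⊓ U y ≤ W)) hA
  rw [resR_resR, map_zero] at hA'
  rw [hA', zero_mul]

theorem co_surjective (x : X) {W : X.Opens} (hW : W ≤ U x) : Function.Surjective (co t x hW) := fun c => by
  refine ⟨(⟨fun y S => ∑ A, resR inf_le_left (c A) * t.T x y (W ⊓ U y) (inf_le_left.trans hW) inf_le_right A S,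
    fun y z V hV hy hz S => ?_⟩ : grp t W), funext fun A => ?_⟩
  · simp only [map_sum, map_mul, resR_resR, t.res, Finset.sum_mul]
    rw [Finset.sum_comm]
    refine Finset.sum_congr rfl fun A _ => ?_
    rw [t.trans x y z V (hV.trans hW) hy hz A S, Finset.mul_sum]
    exact Finset.sum_congr rfl fun B _ => (mul_assoc _ _ _).symm
  · show resR _ (∑ B, resR _ (c B) * t.T x x _ _ _ B A) = c A
    simp only [map_sum, map_mul, resR_resR, resR_self, t.res, t.self, mul_ite, mul_one, mul_zero,
      Finset.sum_ite_eq', Finset.mem_univ, if_true]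

theorem bijective_co (x : X) {W : X.Opens} (hW : W ≤ U x) : Function.Bijective (co t x hW) :=
  ⟨co_injective t x hW, co_surjective t x hW⟩

/-- The standard frame at `x`. -/
def sec (x : X) (A : I x) : Γ(mod t, U x) := (co_surjective t x le_rfl (Pi.single A 1)).choose

theorem co_sec (x : X) {W : X.Opens} (hW : W ≤ U x) (A B : I x) :
    co t x hW (res (mod t) hW (sec t x A)) B = if B = A then 1 else 0 := by
  rw [co_res t x le_rfl hW, show co t x le_rfl (sec t x A) = _ from (co_surjective t x le_rfl (Pi.single A 1)).choose_spec]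
  by_cases h : B = A
  · subst h; rw [Pi.single_eq_same, map_one, if_pos rfl]
  · rw [Pi.single_eq_of_ne h, map_zero, if_neg h]

theorem sum_co (x : X) {W : X.Opens} (hW : W ≤ U x) (f : Γ(mod t, W)) :
    f = ∑ A, co t x hW f A • res (mod t) hW (sec t x A) := by
  refine co_injective t x hW (funext fun B => ?_)
  simp only [map_sum, map_smul, Finset.sum_apply, Pi.smul_apply, co_sec, smul_eq_mul, mul_ite, mul_one, mul_zero,
    Finset.sum_ite_eq, Finset.mem_univ, if_true]

theorem isFinLocFree (hU : ∀ x, x ∈ U x) : FlatMod.IsFinLocFree (mod t) := fun x => by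
  let σ := (Fintype.equivFin (I x)).symm
  refine ⟨U x, _, hU x, H23.Frame.exists_iso_of_frame (fun j => sec t x (σ j)) fun W hW => ?_⟩
  have hkey : H23.Frame.comb (mod t) (fun j => sec t x (σ j)) W hW =
      fun c => (LinearEquiv.ofBijective _ (bijective_co t x hW)).symm (c ∘ σ.symm) := by
    funext c
    refine (LinearEquiv.eq_symm_apply _).2 (funext fun B => ?_)
    show co t x hW (∑ j, c j • res (mod t) hW (sec t x (σ j))) B = c (σ.symm B)
    simp only [map_sum, map_smul, Finset.sum_apply, Pi.smul_apply, co_sec, smul_eq_mul, mul_ite, mul_one, mul_zero]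
    rw [Finset.sum_eq_single (σ.symm B) (fun j _ hj => if_neg fun e => hj (by rw [e, Equiv.symm_apply_apply]))
      (fun h => absurd (Finset.mem_univ _) h), if_pos (σ.apply_symm_apply B).symm]
  rw [hkey]
  exact (LinearEquiv.bijective _).comp (σ.symm.arrowCongr (Equiv.refl _)).symm.bijective

/-- A family of sections transforming by the cocycle gives a map out of the glued module. -/
theorem exists_lift (N : X.Modules) (e : ∀ x, I x → Γ(N, U x))
    (hT : ∀ (x y : X) (W : X.Opens) (hx : W ≤ U x) (hy : W ≤ U y) (A : I x),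
      res N hx (e x A) = ∑ S, t.T x y W hx hy A S • res N hy (e y S))
    (hU : ∀ x, x ∈ U x) : ∃ ψ : mod t ⟶ N, ∀ (x : X) (W : X.Opens) (hW : W ≤ U x) (f : Γ(mod t, W)),
      ψ.app W f = ∑ A, co t x hW f A • res N hW (e x A) := by
  let ev : ∀ (x : X) (W : X.Opens), W ≤ U x → Γ(mod t, W) → Γ(N, W) := fun x W hW f =>
    ∑ A, co t x hW f A • res N hW (e x A)
  have ev_res : ∀ (x : X) (W W' : X.Opens) (hW : W ≤ U x) (h : W' ≤ W) (f : Γ(mod t, W)),
      res N h (ev x W hW f) = ev x W' (h.trans hW) (res (mod t) h f) := fun x W W' hW h f => by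
    simp only [ev, map_sum, res_smul, res_res]
    exact Finset.sum_congr rfl fun A _ => by rw [co_res t x hW h]
  have ev_eq : ∀ (x y : X) (W : X.Opens) (hx : W ≤ U x) (hy : W ≤ U y) (f : Γ(mod t, W)),
      ev x W hx f = ev y W hy f := fun x y W hx hy f => by
    simp only [ev, co_change t x y hx hy f, hT x y W hx hy, Finset.smul_sum, Finset.sum_smul, smul_smul]
    exact Finset.sum_comm
  have hex : ∀ (W : X.Opens) (f : Γ(mod t, W)), ∃! g : Γ(N, W),
      ∀ x : X, res N inf_le_left g = ev x (W ⊓ U x) inf_le_right (res (mod t) inf_le_left f) := fun W f => by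
    refine existsUnique_glue (fun x => W ⊓ U x) (fun _ => inf_le_left) (fun q hq => ⟨q, hq, hU q⟩) _ fun i j => ?_
    rw [ev_res, ev_res, res_res, res_res]
    exact ev_eq i j _ _ _ _
  choose φ hφ huniq using hex
  have φ_small : ∀ (W : X.Opens) (f : Γ(mod t, W)) (x : X) (hW : W ≤ U x), φ W f = ev x W hW f := fun W f x hW =>
    (huniq W f _ fun y => by
      rw [ev_res]
      exact ev_eq x y _ _ _ _).symm
  let Φ : ∀ W : X.Opens, Γ(mod t, W) →ₗ[Γ(X, W)] Γ(N, W) := fun W =>
    { toFun := φ W
      map_add' := fun f g => (huniq W _ _ fun x => by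
        rw [map_add, hφ W f x, hφ W g x]
        simp only [ev, map_add, Pi.add_apply, add_smul, Finset.sum_add_distrib]).symm
      map_smul' := fun r f => (huniq W _ _ fun x => by
        show res N inf_le_left (r • φ W f) = _
        rw [res_smul, hφ W f x, res_smul]
        simp only [ev, map_smul, Pi.smul_apply, smul_eq_mul, Finset.smul_sum, smul_smul]).symm }
  have hnat : ∀ {W W' : X.Opens} (h : W' ≤ W) (f : Γ(mod t, W)),
      Φ W' (res (mod t) h f) = res N h (Φ W f) := fun {W W'} h f =>
    (huniq W' _ _ fun x => by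
      have := congrArg (res N (inf_le_inf_right (U x) h)) (hφ W f x)
      rw [ev_res, res_res, res_res] at this
      rw [res_res, res_res]
      exact this).symm
  let ψ : mod t ⟶ N := ⟨PresheafOfModules.homMk
    { app := fun W => AddCommGrpCat.ofHom (Φ W.unop).toAddMonoidHom
      naturality := fun W W' i => AddCommGrpCat.hom_ext (AddMonoidHom.ext fun f => hnat i.unop.le f) }
    fun W r f => (Φ W.unop).map_smul r f⟩
  exact ⟨ψ, fun x W hW f => φ_small W f x hW⟩

/-- A map carrying the standard frames to frames is an isomorphism. -/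
theorem isIso_of_frame {N : X.Modules} (e : ∀ x, I x → Γ(N, U x))
    (hframe : ∀ (x : X) (W : X.Opens) (hW : W ≤ U x),
      Function.Bijective fun c : I x → Γ(X, W) => ∑ A, c A • res N hW (e x A))
    (ψ : mod t ⟶ N) (hψ : ∀ (x : X) (W : X.Opens) (hW : W ≤ U x) (f : Γ(mod t, W)),
      ψ.app W f = ∑ A, co t x hW f A • res N hW (e x A))
    (hU : ∀ x, x ∈ U x) : IsIso ψ := by
  refine H23.ModLoc.isIso_of_locally ψ fun x => ⟨U x, hU x, ?_⟩
  refine Scheme.Modules.Hom.isIso_iff_isIso_app.2 fun V => (ConcreteCategory.isIso_iff_bijective _).2 ?_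
  have hV : (U x).ι ''ᵁ V ≤ U x := (U x).ι_image_le V
  show Function.Bijective (fun f => ψ.app ((U x).ι ''ᵁ V) f)
  rw [show (fun f => ψ.app ((U x).ι ''ᵁ V) f) =
      (fun c : I x → Γ(X, (U x).ι ''ᵁ V) => ∑ A, c A • res N hV (e x A)) ∘ co t x hV from
    funext fun f => hψ x _ hV f]
  exact (hframe x _ hV).comp (bijective_co t x hV)

/-- A module with frames transforming by the cocycle is the glued module. -/
theorem nonempty_iso (N : X.Modules) (e : ∀ x, I x → Γ(N, U x))
    (hframe : ∀ (x : X) (W : X.Opens) (hW : W ≤ U x),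
      Function.Bijective fun c : I x → Γ(X, W) => ∑ A, c A • res N hW (e x A))
    (hT : ∀ (x y : X) (W : X.Opens) (hx : W ≤ U x) (hy : W ≤ U y) (A : I x),
      res N hx (e x A) = ∑ S, t.T x y W hx hy A S • res N hy (e y S))
    (hU : ∀ x, x ∈ U x) : Nonempty (mod t ≅ N) := by
  obtain ⟨ψ, hψ⟩ := exists_lift t N e hT hU
  haveI := isIso_of_frame t e hframe ψ hψ hU
  exact ⟨asIso ψ⟩

/-- The map given by integral matrices intertwining the cocycles. -/
def hom (m : ∀ x, I x → J x → ℤ)
    (hm : ∀ (x y : X) (W : X.Opens) (hx : W ≤ U x) (hy : W ≤ U y) (A : I x) (S : J y),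
      ∑ B, t.T x y W hx hy A B * (m y B S : Γ(X, W)) = ∑ C, (m x A C : Γ(X, W)) * t'.T x y W hx hy C S) :
    mod t ⟶ mod t' :=
  ⟨PresheafOfModules.homMk
    { app := fun W => AddCommGrpCat.ofHom (AddMonoidHom.mk' (fun f : grp t W.unop =>
        (⟨fun x S => ∑ A, f.1 x A * (m x A S : Γ(X, W.unop ⊓ U x)), fun x y V hV hx hy S => by
          simp only [map_sum, map_mul, map_intCast, f.2 x y V hV hx hy, Finset.sum_mul]
          rw [Finset.sum_comm]
          conv_rhs => rw [Finset.sum_comm]
          refine Finset.sum_congr rfl fun A _ => ?_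
          simp only [mul_assoc]
          rw [← Finset.mul_sum, ← Finset.mul_sum, hm x y V hx hy A S]⟩ : grp t' W.unop))
        fun f g => grp_ext t' fun x S => by
          show ∑ A, (f.1 x A + g.1 x A) * _ = ∑ A, f.1 x A * _ + ∑ A, g.1 x A * _
          simp only [add_mul, Finset.sum_add_distrib])
      naturality := fun W W' i => AddCommGrpCat.hom_ext (AddMonoidHom.ext fun f => grp_ext t' fun x S => by
        show ∑ A, resR _ ((show grp t W.unop from f).1 x A) * _ = resR _ (∑ A, _ * _)
        simp only [map_sum, map_mul, map_intCast]) }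
    fun W r f => grp_ext t' fun x S => by
      show ∑ A, (resR _ (show Γ(X, W.unop) from r) * (show grp t W.unop from f).1 x A) * _ =
        resR _ (show Γ(X, W.unop) from r) * ∑ A, _ * _
      simp only [Finset.mul_sum, mul_assoc]⟩

theorem co_hom (m : ∀ x, I x → J x → ℤ) (hm) (x : X) {W : X.Opens} (hW : W ≤ U x) (f : Γ(mod t, W)) (S : J x) :
    co t' x hW ((hom t t' m hm).app W f) S = ∑ A, co t x hW f A * (m x A S : Γ(X, W)) := by
  show resR _ (∑ A, (fam t f).1 x A * _) = ∑ A, resR _ _ * _
  simp only [map_sum, map_mul, map_intCast]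

end Groth.Agent.ExtPow7.Glue

namespace Groth.Agent.ExtPow7.Glue

open Groth.Agent Groth.Agent.AModX

variable {X : Scheme.{u}} {U : X → X.Opens} {I : X → Type} [∀ x, Fintype (I x)] [∀ x, DecidableEq (I x)]
  (t : Mat U I)

theorem res_sec (x y : X) {W : X.Opens} (hx : W ≤ U x) (hy : W ≤ U y) (A : I x) :
    res (mod t) hx (sec t x A) = ∑ S, t.T x y W hx hy A S • res (mod t) hy (sec t y S) := by
  conv_lhs => rw [sum_co t y hy (res (mod t) hx (sec t x A))]
  refine Finset.sum_congr rfl fun S _ => congrArg (· • _) ?_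
  rw [co_change t x y hx hy]
  simp only [co_sec, ite_mul, one_mul, zero_mul, Finset.sum_ite_eq', Finset.mem_univ, if_true]

theorem frame_sec (x : X) {n : ℕ} (σ : Fin n ≃ I x) (W : X.Opens) (hW : W ≤ U x) :
    Function.Bijective (H23.Frame.comb (mod t) (fun j => sec t x (σ j)) W hW) := by
  have hkey : H23.Frame.comb (mod t) (fun j => sec t x (σ j)) W hW =
      fun c => (LinearEquiv.ofBijective _ (bijective_co t x hW)).symm (c ∘ σ.symm) := by
    funext c
    refine (LinearEquiv.eq_symm_apply _).2 (funext fun B => ?_)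
    show co t x hW (∑ j, c j • res (mod t) hW (sec t x (σ j))) B = c (σ.symm B)
    simp only [map_sum, map_smul, Finset.sum_apply, Pi.smul_apply, co_sec, smul_eq_mul, mul_ite, mul_one, mul_zero]
    rw [Finset.sum_eq_single (σ.symm B) (fun j _ hj => if_neg fun e => hj (by rw [e, Equiv.symm_apply_apply]))
      (fun h => absurd (Finset.mem_univ _) h), if_pos (σ.apply_symm_apply B).symm]
  rw [hkey]
  exact (LinearEquiv.bijective _).comp (σ.symm.arrowCongr (Equiv.refl _)).symm.bijective

end Groth.Agent.ExtPow7.Glue
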