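import Groth.Agent.ExtPow7.Exists
import Groth.Agent.ExtPow7.Glue
import Groth.Agent.WedgeX.Free

/-!
# Exterior powers as glued modules
-/

set_option autoImplicit false
set_option linter.style.haveILetI false
set_option linter.unusedSectionVars false
set_option backward.isDefEq.respectTransparency false
set_option backward.isDefEq.respectTransparency.types false

universe u

open CategoryTheory CategoryTheory.Limits AlgebraicGeometry TopologicalSpace Opposite Set.powersetCard

noncomputable section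

namespace Groth.Agent.ExtPow7

open Groth.Agent Groth.Agent.AModX

variable {X : Scheme.{u}} {E : X.Modules} {p : ℕ} {n : X → ℕ} (U : X → X.Opens)
  (s : ∀ x, Fin (n x) → Γ(E, U x)) (hs : ∀ x, H23.Frame.IsFrame E (s x))

variable (p) in
/-- The cocycle of the exterior power. -/
def mat : Glue.Mat U (I p n) where
  T := T U s hs
  res x y W W' h hx hy A B := T_res U s hs x y h hx hy A B
  trans x y z W hx hy hz A C := repr_change U s hs y z W hy hz _ C
  self x W hx A B := by
    rw [T, cw, ιMulti_bv, Module.Basis.repr_self, Finsupp.single_apply]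

/-- An exterior power is the glued module of its cocycle. -/
theorem nonempty_iso_mat (hUa : ∀ x, IsAffineOpen (U x)) (hU : ∀ x, x ∈ U x) (L : X.Modules)
    (hL : ExtPow.IsExtPow p E L) : Nonempty (Glue.mod (mat p U s hs) ≅ L) := by
  obtain ⟨φ, hφ⟩ := hL
  let Ua : X → X.affineOpens := fun x => ⟨U x, hUa x⟩
  let e : ∀ x, I p n x → Γ(L, U x) := fun x A => WedgeX.lbas φ (hs x) (Ua x) le_rfl A
  have key : ∀ (x : X) (Q : X.affineOpens) (hQ : Q.1 ≤ U x) (A : I p n x),
      res L hQ (e x A) = WedgeX.lbas φ (hs x) Q hQ A := fun x Q hQ A =>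
    WedgeX.res_lbas φ (hs x) hφ (Ua x) Q hQ le_rfl A
  refine Glue.nonempty_iso (mat p U s hs) L e (fun x W hW => ?_) (fun x y W hx hy A => ?_) hU
  · have hb := WedgeX.isFrame_lframe φ (hs x) (Ua x) le_rfl hφ W hW
    let σ := (Fintype.equivFin (Set.powersetCard (Fin (n x)) p)).symm
    have he : (fun c : I p n x → Γ(X, W) => ∑ A, c A • res L hW (e x A)) =
        H23.Frame.comb L (WedgeX.lframe φ (hs x) (Ua x) le_rfl) W hW ∘ (fun c => c ∘ σ) :=
      funext fun c => (σ.sum_comp fun A => c A • res L hW (e x A)).symm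
    rw [he]
    exact hb.comp (σ.arrowCongr (Equiv.refl _)).symm.bijective
  · refine AModX.eq_of_locally _ _ fun q hq => ?_
    obtain ⟨_, ⟨Q, hQ, rfl⟩, hqQ, hle⟩ := X.isBasis_affineOpens.exists_subset_of_mem_open hq W.2
    refine ⟨Q, hle, hqQ, ?_⟩
    simp only [map_sum, res_smul, res_res]
    rw [key x ⟨Q, hQ⟩ (hle.trans hx)]
    conv_rhs =>
      enter [2, S]
      rw [show resR hle ((mat p U s hs).T x y W hx hy A S) = T U s hs x y Q (hle.trans hx) (hle.trans hy) A S from
        T_res U s hs x y hle hx hy A S, key y ⟨Q, hQ⟩ (hle.trans hy)]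
    have hb : ∀ (z : X) (hz : Q ≤ U z) (S : I p n z),
        WedgeX.lbas φ (hs z) ⟨Q, hQ⟩ hz S = (φ ⟨Q, hQ⟩).symm (B U s hs z Q hz S) := fun z hz S => rfl
    rw [hb]
    conv_rhs =>
      enter [2, S]
      rw [hb y (hle.trans hy) S]
    conv_lhs => rw [← (B U s hs y Q (hle.trans hy)).sum_repr (B U s hs x Q (hle.trans hx) A)]
    rw [map_sum]
    refine Finset.sum_congr rfl fun S _ => ?_
    rw [T, cw, ιMulti_bv]
    exact map_smul (φ ⟨Q, hQ⟩).symm _ _

end Groth.Agent.ExtPow7
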