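import Groth.Agent.ExtPow7.Adapted

/-!
# The top exterior power of an extension
-/

set_option autoImplicit false
set_option linter.style.haveILetI false
set_option linter.unusedSectionVars false
set_option backward.isDefEq.respectTransparency false
set_option backward.isDefEq.respectTransparency.types false

universe u

open CategoryTheory CategoryTheory.Limits AlgebraicGeometry TopologicalSpace Opposite

noncomputable section

namespace Groth.Agent.ExtPow7

open Groth.Agent Groth.Agent.AModX

theorem deg_eq_of_top {a b : ℕ} (A : Set.powersetCard (Fin (a + b)) (a + b)) : deg A = a := by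
  have h : ∀ k, (emb A k).1 = k.1 := by
    intro k
    let e := StrictMono.orderIsoOfSurjective (emb A) (emb A).strictMono
      (Finite.surjective_of_injective (emb A).injective)
    have hid : e = OrderIso.refl _ := Subsingleton.elim _ _
    exact congrArg Fin.val (congrArg (fun f : Fin (a + b) ≃o Fin (a + b) => f k) hid)
  unfold deg
  rw [Finset.filter_congr (fun k _ => by rw [h k] : ∀ k ∈ Finset.univ, (emb A k).1 < a ↔ k.1 < a)]
  exact Fin.card_filter_val_lt.trans (min_eq_right (Nat.le_add_right a b))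

variable {X : Scheme.{u}} {S : ShortComplex X.Modules} (hS : S.ShortExact) {a b : ℕ}

include hS in
/-- The top exterior power of an extension is the product of the top exterior powers. -/
theorem nonempty_iso_top_ses {n' n'' : X → ℕ} (hn' : ∀ x, n' x = a) (hn'' : ∀ x, n'' x = b)
    {U : X → X.Opens} (hU : ∀ x, x ∈ U x) (hUa : ∀ x, IsAffineOpen (U x))
    (s' : ∀ x, Fin (n' x) → Γ(S.X₁, U x)) (t : ∀ x, Fin (n'' x) → Γ(S.X₂, U x))
    (hs' : ∀ x, H23.Frame.IsFrame S.X₁ (s' x))
    (hs'' : ∀ x, H23.Frame.IsFrame S.X₃ (fun k => S.g.app (U x) (t x k)))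
    (L₁ L₂ L₃ : X.Modules) (hL₁ : ExtPow.IsExtPow a S.X₁ L₁) (hL₂ : ExtPow.IsExtPow (a + b) S.X₂ L₂)
    (hL₃ : ExtPow.IsExtPow b S.X₃ L₃) :
    Nonempty (L₂ ≅ CohB1.tensorMod L₁ L₃) := by
  have hs := isFrame_app2 hS s' t hs' hs''
  let M := mat (a + b) U (app2 s' t) hs
  have hdeg : ∀ x (A : I (a + b) (fun x => n' x + n'' x) x), deg A = a := by
    intro x A
    have : ∀ (u v : ℕ) (_ : u = a) (_ : v = b) (A : Set.powersetCard (Fin (u + v)) (a + b)), deg A = a := by
      rintro u v rfl rfl A
      exact deg_eq_of_top A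
    exact this _ _ (hn' x) (hn'' x) A
  have hij : a + b = a + b := rfl
  let s₃ : ∀ x, Fin (n'' x) → Γ(S.X₃, U x) := fun x k => S.g.app (U x) (t x k)
  obtain ⟨a'⟩ := nonempty_iso_mat U s' hs' hUa hU L₁ hL₁
  obtain ⟨a''⟩ := nonempty_iso_mat U s₃ hs'' hUa hU L₃ hL₃
  obtain ⟨eL⟩ := nonempty_iso_mat U (app2 s' t) hs hUa hU L₂ hL₂
  let N' := Glue.mod (mat a U s' hs')
  let N'' := Glue.mod (mat b U s₃ hs'')
  let P := fun x => fun A : I (a + b) (fun x => n' x + n'' x) x =>
    (⟨A, hdeg x A⟩ : {A : I (a + b) (fun x => n' x + n'' x) x // deg A = a})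
  have hP : ∀ x, Function.Bijective (P x) := fun x =>
    ⟨fun A B h => congrArg Subtype.val h, fun A => ⟨A.1, rfl⟩⟩
  obtain ⟨e⟩ := Glue.nonempty_iso M (CohB1.tensorMod N' N'')
      (fun x A => InvX.tmul (Glue.sec (mat a U s' hs') x (pre' hij A (hdeg x A)))
        (Glue.sec (mat b U s₃ hs'') x (pre'' hij A (hdeg x A)))) (fun x W hW => by
        let σ₁ := (Fintype.equivFin (I a n' x)).symm
        let σ₂ := (Fintype.equivFin (I b n'' x)).symm
        have f₁ : H23.Frame.IsFrame N' (fun k => Glue.sec (mat a U s' hs') x (σ₁ k)) := fun W hW => by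
          exact Glue.frame_sec (mat a U s' hs') x σ₁ W hW
        have f₂ : H23.Frame.IsFrame N'' (fun k => Glue.sec (mat b U s₃ hs'') x (σ₂ k)) := fun W hW => by
          exact Glue.frame_sec (mat b U s₃ hs'') x σ₂ W hW
        have f := isFrame_tmul f₁ f₂ finProdFinEquiv.symm W hW
        let τ : Fin (Fintype.card (I a n' x) * Fintype.card (I b n'' x)) ≃
            I (a + b) (fun x => n' x + n'' x) x :=
          ((finProdFinEquiv.symm.trans (σ₁.prodCongr σ₂)).trans
            (Equiv.ofBijective _ (bijective_pre hij)).symm).trans (Equiv.ofBijective _ (hP x)).symm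
        have hτ : ∀ q, (pre' hij (τ q) (hdeg x (τ q)), pre'' hij (τ q) (hdeg x (τ q))) =
            (σ₁ (finProdFinEquiv.symm q).1, σ₂ (finProdFinEquiv.symm q).2) := fun q => by
          have h := Equiv.ofBijective_apply_symm_apply _ (bijective_pre (a := n' x) (b := n'' x) hij)
            ((σ₁.prodCongr σ₂) (finProdFinEquiv.symm q))
          rw [← Equiv.ofBijective_apply_symm_apply _ (hP x) ((Equiv.ofBijective _ (bijective_pre hij)).symm
            ((σ₁.prodCongr σ₂) (finProdFinEquiv.symm q)))] at h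
          exact h
        refine (congrArg Function.Bijective (funext fun c => ?_)).mpr (f.comp (τ.arrowCongr (Equiv.refl _)).symm.bijective)
        show _ = H23.Frame.comb _ _ W hW fun q => c (τ q)
        rw [H23.Frame.comb, ← τ.sum_comp]
        refine Finset.sum_congr rfl fun q _ => congrArg (c (τ q) • ·) ?_
        rw [show pre' hij (τ q) (hdeg x (τ q)) = _ from (Prod.ext_iff.1 (hτ q)).1,
          show pre'' hij (τ q) (hdeg x (τ q)) = _ from (Prod.ext_iff.1 (hτ q)).2]
        rfl)
      (fun x y W hx hy A => by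
        rw [InvX.res_tmul, Glue.res_sec (mat a U s' hs') x y hx hy, Glue.res_sec (mat b U s₃ hs'') x y hx hy,
          tmul_sum_smul, ← ((Equiv.ofBijective _ (hP y)).trans (Equiv.ofBijective _ (bijective_pre hij))).sum_comp]
        refine Finset.sum_congr rfl fun B _ => ?_
        rw [InvX.res_tmul]
        exact congrArg (· • _) (quot_T s' t hs' hs'' hs hij x y hx hy ⟨A, hdeg x A⟩ ⟨B, hdeg y B⟩).symm) hU
  exact ⟨eL.symm ≪≫ e ≪≫ ((DCoh.tensorBi (X := X)).mapIso a').app N'' ≪≫
    ((DCoh.tensorBi (X := X)).obj L₁).mapIso a''⟩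

end Groth.Agent.ExtPow7
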