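import Groth.Agent.ExtPow7.Basics
import Groth.Agent.ExtPow7.TensorFrame
import Groth.Agent.InvX.Tensor
import Groth.Agent.KFlatLib.Perfect.Tensor

/-!
# Exterior powers of a tensor product with an invertible module
-/

set_option autoImplicit false
set_option linter.style.haveILetI false
set_option linter.unusedSectionVars false
set_option backward.isDefEq.respectTransparency false
set_option backward.isDefEq.respectTransparency.types false

universe u

open CategoryTheory CategoryTheory.Limits AlgebraicGeometry TopologicalSpace Opposite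

noncomputable section

namespace Groth.Agent.ExtPow7

open Groth.Agent Groth.Agent.AModX

variable {X : Scheme.{u}}

theorem isFrame_tmul_line {M N : X.Modules} {U : X.Opens} {n : ℕ} {a : Fin n → Γ(M, U)} {b : Γ(N, U)}
    (ha : H23.Frame.IsFrame M a) (hb : InvX.IsFrame b) :
    H23.Frame.IsFrame (CohB1.tensorMod M N) fun i => InvX.tmul (a i) b := by
  have hb' : H23.Frame.IsFrame N fun _ : Fin 1 => b := fun W hW => by
    have : H23.Frame.comb N (fun _ : Fin 1 => b) W hW = (fun g : Γ(X, W) => g • res N hW b) ∘ fun c => c 0 :=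
      funext fun c => Fin.sum_univ_one _
    rw [this]
    exact (hb W hW).comp (Equiv.funUnique (Fin 1) Γ(X, W)).bijective
  let σ : Fin (n * 1) ≃ Fin n × Fin 1 := finProdFinEquiv.symm
  intro W hW
  let τ : Fin (n * 1) ≃ Fin n := finCongr (mul_one n)
  have hσ : ∀ q, (σ q).1 = τ q := fun q => Fin.ext (by simp [σ, τ, finProdFinEquiv])
  have h := isFrame_tmul ha hb' σ W hW
  have key : H23.Frame.comb (CohB1.tensorMod M N) (fun i => InvX.tmul (a i) b) W hW =
      H23.Frame.comb (CohB1.tensorMod M N) (fun q => InvX.tmul (a (σ q).1) b) W hW ∘ fun c => c ∘ τ := by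
    funext c
    refine (τ.sum_comp fun i => c i • res (CohB1.tensorMod M N) hW (InvX.tmul (a i) b)).symm.trans ?_
    exact Finset.sum_congr rfl fun q _ => by simp only [Function.comp_apply, hσ]; rfl
  rw [key]
  exact h.comp (τ.arrowCongr (Equiv.refl _)).symm.bijective

variable {L : X.Modules}

/-- The frame of a power of an invertible module. -/
def linePow {U : X.Opens} (l : Γ(L, U)) : ∀ p : ℕ, Γ(CohB1.tensorPow L p, U)
  | 0 => (1 : Γ(X, U))
  | p + 1 => InvX.tmul (linePow l p) l

theorem isFrame_linePow {U : X.Opens} {l : Γ(L, U)} (hl : InvX.IsFrame l) :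
    ∀ p : ℕ, InvX.IsFrame (linePow l p)
  | 0 => InvX.isFrame_one U
  | p + 1 => InvX.isFrame_tmul (isFrame_linePow hl p) hl

theorem res_linePow {U V W : X.Opens} {l : Γ(L, U)} {l' : Γ(L, V)} (hU : W ≤ U) (hV : W ≤ V) {c : Γ(X, W)}
    (h : res L hU l = c • res L hV l') :
    ∀ p : ℕ, res (CohB1.tensorPow L p) hU (linePow l p) = c ^ p • res (CohB1.tensorPow L p) hV (linePow l' p)
  | 0 => by
    rw [pow_zero, one_smul]
    show resR hU (1 : Γ(X, U)) = resR hV (1 : Γ(X, V))
    rw [map_one, map_one]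
  | p + 1 => by
    show res (CohB1.tensorMod (CohB1.tensorPow L p) L) hU (InvX.tmul (linePow l p) l) =
      _ • res (CohB1.tensorMod (CohB1.tensorPow L p) L) hV (InvX.tmul (linePow l' p) l')
    rw [InvX.res_tmul, InvX.res_tmul, res_linePow hU hV h p, h, InvX.tmul_smul_left, InvX.tmul_smul_right,
      smul_smul, pow_succ]

/-- `Λ^p (E ⊗ L) = Λ^p E ⊗ L^p` for invertible `L`. -/
theorem nonempty_iso_isExtPow_tensor_line {E : X.Modules} (hE : FlatMod.IsFinLocFree E)
    (hL : PicF.IsInvertible L) {p : ℕ} {A B : X.Modules} (hA : ExtPow.IsExtPow p E A)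
    (hB : ExtPow.IsExtPow p (CohB1.tensorMod E L) B) :
    Nonempty (B ≅ CohB1.tensorMod A (CohB1.tensorPow L p)) := by
  obtain ⟨n, U₀, s₀, hU₀, -, hs₀⟩ := exists_affine_frames hE
  choose V hV l hl using fun x => InvX.exists_frame hL x
  choose Q hQ hxQ hle using fun x : X =>
    X.isBasis_affineOpens.exists_subset_of_mem_open (show x ∈ U₀ x ⊓ V x from ⟨hU₀ x, hV x⟩) (U₀ x ⊓ V x).2
  choose U hUa hUQ using hQ
  have hU1 : ∀ x, U x ≤ U₀ x := fun x z hz => (hle x (hUQ x ▸ hz)).1
  have hU2 : ∀ x, U x ≤ V x := fun x z hz => (hle x (hUQ x ▸ hz)).2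
  have hxU : ∀ x, x ∈ U x := fun x => by have := hxQ x; rwa [← hUQ x] at this
  let s : ∀ x, Fin (n x) → Γ(E, U x) := fun x i => res E (hU1 x) (s₀ x i)
  have hs : ∀ x, H23.Frame.IsFrame E (s x) := fun x => (hs₀ x).res (hU1 x)
  let m : ∀ x, Γ(L, U x) := fun x => res L (hU2 x) (l x)
  have hm : ∀ x, InvX.IsFrame (m x) := fun x => (hl x).res (hU2 x)
  let s' : ∀ x, Fin (n x) → Γ(CohB1.tensorMod E L, U x) := fun x i => InvX.tmul (s x i) (m x)
  have hs' : ∀ x, H23.Frame.IsFrame (CohB1.tensorMod E L) (s' x) := fun x => isFrame_tmul_line (hs x) (hm x)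
  obtain ⟨a⟩ := nonempty_iso_mat U s hs hUa hxU A hA
  obtain ⟨b⟩ := nonempty_iso_mat U s' hs' hUa hxU B hB
  let t := mat p U s hs
  suffices h : Nonempty (Glue.mod (mat p U s' hs') ≅ CohB1.tensorMod (Glue.mod t) (CohB1.tensorPow L p)) from
    ⟨b.symm ≪≫ h.some ≪≫ PicGrp.tensorModIso a (Iso.refl _)⟩
  refine Glue.nonempty_iso _ _ (fun x A => InvX.tmul (Glue.sec t x A) (linePow (m x) p)) (fun x W hW => ?_)
    (fun x y W hx hy A => ?_) hxU
  · let σ := (Fintype.equivFin (I p n x)).symm
    have hb := isFrame_tmul_line (a := fun j => Glue.sec t x (σ j)) (Glue.frame_sec t x σ)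
      (isFrame_linePow (hm x) p) W hW
    have he : (fun c : I p n x → Γ(X, W) => ∑ A, c A •
        res (CohB1.tensorMod (Glue.mod t) (CohB1.tensorPow L p)) hW (InvX.tmul (Glue.sec t x A) (linePow (m x) p))) =
        H23.Frame.comb (CohB1.tensorMod (Glue.mod t) (CohB1.tensorPow L p))
          (fun j => InvX.tmul (Glue.sec t x (σ j)) (linePow (m x) p)) W hW ∘ (fun c => c ∘ σ) :=
      funext fun c => (σ.sum_comp fun A => c A •
        res (CohB1.tensorMod (Glue.mod t) (CohB1.tensorPow L p)) hW (InvX.tmul (Glue.sec t x A) (linePow (m x) p))).symm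
    rw [he]
    exact hb.comp (σ.arrowCongr (Equiv.refl _)).symm.bijective
  · obtain ⟨c, hc⟩ := ((hm y).exists_coord hy (res L hx (m x)))
    simp only [InvX.res_tmul]
    rw [Glue.res_sec t x y hx hy A, res_linePow hx hy hc p, InvX.tmul_smul_right]
    refine (congrArg (c ^ p • ·) (map_sum (tmulL (res (CohB1.tensorPow L p) hy (linePow (m y) p)))
      (fun S => t.T x y W hx hy A S • res (Glue.mod t) hy (Glue.sec t y S)) Finset.univ)).trans ?_
    rw [Finset.smul_sum]
    refine Finset.sum_congr rfl fun S _ => ?_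
    show c ^ p • InvX.tmul _ _ = _
    rw [InvX.tmul_smul_left, smul_smul]
    congr 1
    show c ^ p * ExtPow7.T U s hs x y W hx hy A S = ExtPow7.T U s' hs' x y W hx hy A S
    rw [ExtPow7.T, ExtPow7.T, cw_eq_det, cw_eq_det]
    conv_lhs => rw [show c ^ p = c ^ Fintype.card (Fin p) by rw [Fintype.card_fin], ← Matrix.det_smul]
    congr 1
    ext i j
    simp only [bv, Matrix.smul_apply, Matrix.of_apply, smul_eq_mul]
    set k := Set.powersetCard.ofFinEmbEquiv.symm A i
    set B' := ExtShX.TopExt.bas (hs' y) W hy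
    have hexp : ExtShX.TopExt.bas (hs' x) W hx k =
        ∑ q, (c * (ExtShX.TopExt.bas (hs y) W hy).repr (ExtShX.TopExt.bas (hs x) W hx k) q) • B' q := by
      simp only [B', ExtShX.TopExt.bas_apply, s', InvX.res_tmul]
      conv_lhs => rw [← (ExtShX.TopExt.bas (hs y) W hy).sum_repr (res E hx (s x k)), hc]
      simp only [ExtShX.TopExt.bas_apply, InvX.tmul_smul_right]
      refine (congrArg (c • ·) (map_sum (tmulL (M := E) (N := L) (res L hy (m y)))
        (fun q => _ • res E hy (s y q)) Finset.univ)).trans ?_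
      rw [Finset.smul_sum]
      refine Finset.sum_congr rfl fun q _ => ?_
      show c • InvX.tmul _ _ = _
      rw [InvX.tmul_smul_left, smul_smul]
    rw [hexp, Module.Basis.repr_sum_self]

end Groth.Agent.ExtPow7
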